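import Groth.Agent.BMLib.Dim
import Mathlib.AlgebraicGeometry.Properties

/-!
# Pieces: reduced closed subsets met with opens
-/

universe u

noncomputable section

open AlgebraicGeometry CategoryTheory Topology TopologicalSpace

namespace Groth.Agent.BMLib

open BMCoh

instance isReduced_vanishingIdeal_subscheme {X : Scheme.{u}} (Z : Closeds X) :
    IsReduced (Scheme.IdealSheafData.vanishingIdeal Z).subscheme := by
  let I := Scheme.IdealSheafData.vanishingIdeal Z
  have : ∀ i, IsReduced (I.subschemeCover.openCover.X i) := fun U => by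
    have hr : (I.ideal U).IsRadical := PrimeSpectrum.isRadical_vanishingIdeal _
    have : _root_.IsReduced (Γ(X, U.1) ⧸ I.ideal U) :=
      (Ideal.isRadical_iff_quotient_reduced _).mp hr
    exact inferInstanceAs (IsReduced (Spec (.of (Γ(X, U.1) ⧸ I.ideal U))))
  exact IsReduced.of_openCover _ I.subschemeCover.openCover

variable {V : ObjectProperty Scheme.{u}} [IsConstructible V]

/-- The reduced closed subscheme on a closed subset, as an object. -/
abbrev red (X : Obj V) (C : Closeds X.scheme) : Obj V :=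
  ⟨(Scheme.IdealSheafData.vanishingIdeal C).subscheme,
    IsConstructible.of_isClosedImmersion (Scheme.IdealSheafData.vanishingIdeal C).subschemeι
      (h := (inferInstance : IsClosedImmersion _)) X.mem⟩

/-- Its closed immersion. -/
abbrev redι (X : Obj V) (C : Closeds X.scheme) : (red X C).scheme ⟶ X.scheme :=
  (Scheme.IdealSheafData.vanishingIdeal C).subschemeι

/-- The closure of a point as a closed subset. -/
abbrev clPt (X : Obj V) (x : X.scheme) : Closeds X.scheme :=
  ⟨closure ({x} : Set X.scheme), isClosed_closure⟩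

/-- The trace of an open on the reduced closed subscheme. -/
abbrev pcOpen (X : Obj V) (C : Closeds X.scheme) (Y : X.scheme.Opens) : (red X C).scheme.Opens :=
  redι X C ⁻¹ᵁ Y

/-- The piece `C ∩ Y`. -/
abbrev pc (X : Obj V) (C : Closeds X.scheme) (Y : X.scheme.Opens) : Obj V :=
  (red X C).res (pcOpen X C Y)

/-- The closed immersion of the piece in the open. -/
abbrev pi (X : Obj V) (C : Closeds X.scheme) (Y : X.scheme.Opens) :
    (pc X C Y).scheme ⟶ (X.res Y).scheme :=
  redι X C ∣_ Y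

/-- The immersion of the piece in the ambient scheme. -/
abbrev toX (X : Obj V) (C : Closeds X.scheme) (Y : X.scheme.Opens) :
    (pc X C Y).scheme ⟶ X.scheme :=
  (pcOpen X C Y).ι ≫ redι X C

variable (X : Obj V)

instance isClosedImmersion_pi (C : Closeds X.scheme) (Y : X.scheme.Opens) :
    IsClosedImmersion (pi X C Y) :=
  IsZariskiLocalAtTarget.restrict (P := @IsClosedImmersion) inferInstance Y

@[reassoc]
lemma pi_ι (C : Closeds X.scheme) (Y : X.scheme.Opens) : pi X C Y ≫ Y.ι = toX X C Y :=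
  morphismRestrict_ι _ _

lemma range_redι (C : Closeds X.scheme) : Set.range (redι X C) = (C : Set X.scheme) := by
  rw [Scheme.IdealSheafData.range_subschemeι, Scheme.IdealSheafData.coe_support_vanishingIdeal]

lemma range_toX (C : Closeds X.scheme) (Y : X.scheme.Opens) :
    Set.range (toX X C Y) = (C : Set X.scheme) ∩ Y := by
  rw [Scheme.Hom.comp_base, TopCat.coe_comp, Set.range_comp, Scheme.Opens.range_ι]
  show redι X C '' (redι X C ⁻¹' (Y : Set X.scheme)) = _
  rw [Set.image_preimage_eq_inter_range, range_redι, Set.inter_comm]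

lemma range_pi (C : Closeds X.scheme) (Y : X.scheme.Opens) :
    Set.range (pi X C Y) = Y.ι ⁻¹' (C : Set X.scheme) := by
  apply Y.ι.isOpenEmbedding.injective.image_injective
  rw [← Set.range_comp, ← TopCat.coe_comp, ← Scheme.Hom.comp_base, pi_ι, range_toX,
    Set.image_preimage_eq_inter_range, Scheme.Opens.range_ι]

variable {X}

/-- The map of pieces for smaller data. -/
def pcMap {C C' : Closeds X.scheme} {Y Y' : X.scheme.Opens} (hC : C' ≤ C) (hY : Y' ≤ Y) :
    (pc X C' Y').scheme ⟶ (pc X C Y).scheme :=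
  IsOpenImmersion.lift (pcOpen X C Y).ι
    ((pcOpen X C' Y').ι ≫
      Scheme.IdealSheafData.inclusion (Scheme.IdealSheafData.vanishingIdeal_antimono hC))
    (Set.range_subset_iff.mpr fun p => by
      rw [Scheme.Opens.range_ι]
      show redι X C ((_ ≫ Scheme.IdealSheafData.inclusion _) p) ∈ Y
      rw [← Scheme.Hom.comp_apply, Category.assoc, Scheme.IdealSheafData.inclusion_subschemeι]
      exact hY ((Set.ext_iff.mp (range_toX X C' Y') _).mp ⟨p, rfl⟩).2)

variable {C C' : Closeds X.scheme} {Y Y' : X.scheme.Opens}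

@[reassoc]
lemma pcMap_toX (hC : C' ≤ C) (hY : Y' ≤ Y) : pcMap hC hY ≫ toX X C Y = toX X C' Y' := by
  unfold pcMap toX
  rw [IsOpenImmersion.lift_fac_assoc, Category.assoc, Scheme.IdealSheafData.inclusion_subschemeι]

lemma pcMap_pi (hC : C' ≤ C) (hY : Y' ≤ Y) :
    pcMap hC hY ≫ pi X C Y = pi X C' Y' ≫ X.scheme.homOfLE hY := by
  rw [← cancel_mono Y.ι, Category.assoc, pi_ι, pcMap_toX, Category.assoc, Scheme.homOfLE_ι, pi_ι]

lemma range_pcMap (hC : C' ≤ C) (hY : Y' ≤ Y) :
    Set.range (pcMap hC hY) = toX X C Y ⁻¹' ((C' : Set X.scheme) ∩ Y') := by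
  have h := range_toX X C' Y'
  rw [← pcMap_toX hC hY, Scheme.Hom.comp_base, TopCat.coe_comp, Set.range_comp] at h
  rw [← h, Set.preimage_image_eq]
  exact ((redι X C).isClosedEmbedding.injective).comp (pcOpen X C Y).ι.isOpenEmbedding.injective

lemma isClosedImmersion_pcMap (hC : C' ≤ C) : IsClosedImmersion (pcMap hC (le_refl Y)) := by
  have : IsClosedImmersion (pcMap hC (le_refl Y) ≫ pi X C Y) := by
    rw [pcMap_pi, Scheme.homOfLE_rfl, Category.comp_id]; infer_instance
  exact IsClosedImmersion.of_comp_isClosedImmersion _ (pi X C Y)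

lemma isOpenImmersion_pcMap_of_left (hY : Y' ≤ Y) :
    IsOpenImmersion (pcMap (le_refl C) hY) := by
  have h : pcMap (le_refl C) hY =
      (red X C).scheme.homOfLE (show pcOpen X C Y' ≤ pcOpen X C Y from fun p hp => hY hp) := by
    rw [← cancel_mono (toX X C Y), pcMap_toX, Scheme.homOfLE_ι_assoc]
  rw [h]; infer_instance

lemma isIso_pcMap (hC : C' ≤ C) (h : (C : Set X.scheme) ∩ Y ⊆ C') :
    IsIso (pcMap hC (le_refl Y)) := by
  have := isClosedImmersion_pcMap (Y := Y) hC
  have : Surjective (pcMap hC (le_refl Y)) := ⟨by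
    rw [← Set.range_eq_univ, range_pcMap, Set.eq_univ_iff_forall]
    intro p
    have hp : toX X C Y p ∈ (C : Set X.scheme) ∩ Y := range_toX X C Y ▸ Set.mem_range_self p
    exact ⟨h hp, hp.2⟩⟩
  exact isIso_of_isClosedImmersion_of_surjective _

lemma isOpenImmersion_pcMap (hC : C' ≤ C) (hY : Y' ≤ Y)
    (h : (C : Set X.scheme) ∩ Y' ⊆ C') : IsOpenImmersion (pcMap hC hY) := by
  have e : pcMap hC hY = pcMap hC (le_refl Y') ≫ pcMap (le_refl C) hY := by
    rw [← cancel_mono (toX X C Y), Category.assoc, pcMap_toX, pcMap_toX, pcMap_toX]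
  have := isIso_pcMap hC h
  have := isOpenImmersion_pcMap_of_left (X := X) (C := C) hY
  rw [e]; infer_instance

/-- Open morphism of pieces, as a morphism of objects. -/
def pcMor (hC : C' ≤ C) (hY : Y' ≤ Y) (h : (C : Set X.scheme) ∩ Y' ⊆ C')
    (hd : WeilCoh.dim (pc X C' Y').scheme = WeilCoh.dim (pc X C Y).scheme) :
    pc X C' Y' ⟶ pc X C Y :=
  ⟨pcMap hC hY, isOpenImmersion_pcMap hC hY h, hd⟩

@[simp] lemma pcMor_hom (hC : C' ≤ C) (hY : Y' ≤ Y) (h hd) :
    (pcMor (X := X) hC hY h hd).hom = pcMap hC hY := rfl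

lemma isPullback_pcMap (hC : C' ≤ C) (hY : Y' ≤ Y)
    (h : (C : Set X.scheme) ∩ Y' ⊆ C') :
    IsPullback (pcMap hC hY) (pi X C' Y') (pi X C Y) (X.scheme.homOfLE hY) := by
  have := isOpenImmersion_pcMap hC hY h
  refine (IsOpenImmersion.isPullback (pi X C' Y') (pcMap hC hY) (X.scheme.homOfLE hY) (pi X C Y)
    (pcMap_pi hC hY) ?_).flip
  ext p
  show pi X C Y p ∈ Set.range (X.scheme.homOfLE hY) ↔ p ∈ Set.range (pcMap hC hY)
  rw [range_pcMap]
  have hp : toX X C Y p ∈ (C : Set X.scheme) ∩ Y := range_toX X C Y ▸ Set.mem_range_self p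
  have hy : toX X C Y p = Y.ι (pi X C Y p) := by rw [← pi_ι]; rfl
  have hr : pi X C Y p ∈ Set.range (X.scheme.homOfLE hY) ↔ Y.ι (pi X C Y p) ∈ Y' := by
    rw [← Y.ι.isOpenEmbedding.injective.mem_set_image (s := Set.range _), ← Set.range_comp,
      ← TopCat.coe_comp, ← Scheme.Hom.comp_base, Scheme.homOfLE_ι, Scheme.Opens.range_ι]
    rfl
  rw [hr, ← hy]
  exact ⟨fun hq => ⟨h ⟨hp.1, hq⟩, hq⟩, fun hq => hq.2⟩

lemma isOpenImmersion_pi [IsReduced X.scheme] (O : X.scheme.Opens)
    (hO : (O : Set X.scheme) = (C : Set X.scheme) ∩ Y) : IsOpenImmersion (pi X C Y) := by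
  have hOY : O ≤ Y := fun p hp => (hO ▸ hp : p ∈ (C : Set X.scheme) ∩ Y).2
  have : Surjective (pi X C O) := ⟨by
    rw [← Set.range_eq_univ, range_pi, Set.eq_univ_iff_forall]
    exact fun p => (hO ▸ p.2 : p.1 ∈ (C : Set X.scheme) ∩ Y).1⟩
  have : IsIso (pi X C O) := isIso_of_isClosedImmersion_of_surjective _
  have := isOpenImmersion_pcMap_of_left (X := X) (C := C) hOY
  have : Surjective (pcMap (le_refl C) hOY) := ⟨by
    rw [← Set.range_eq_univ, range_pcMap, Set.eq_univ_iff_forall]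
    intro p
    have hp : toX X C Y p ∈ (C : Set X.scheme) ∩ Y := range_toX X C Y ▸ Set.mem_range_self p
    refine ⟨hp.1, ?_⟩
    show toX X C Y p ∈ (O : Set X.scheme)
    rw [hO]; exact hp⟩
  have : Epi (pcMap (le_refl C) hOY).base := (TopCat.epi_iff_surjective _).mpr (Scheme.Hom.surjective _)
  have := IsOpenImmersion.isIso (pcMap (le_refl C) hOY)
  rw [← IsIso.inv_hom_id_assoc (pcMap (le_refl C) hOY) (pi X C Y), pcMap_pi]
  infer_instance

/-! ### Dimensions -/

lemma pdim_pc (C : Closeds X.scheme) (Y : X.scheme.Opens) (p : (pc X C Y).scheme) :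
    WeilCoh.pdim (pc X C Y).scheme p = WeilCoh.pdim X.scheme (toX X C Y p) := by
  rw [← pdim_eq_of_isOpenImmersion (red X C) (pcOpen X C Y).ι p]
  exact (pdim_eq_of_isClosedImmersion (redι X C) _).symm

lemma dim_le_pc {x : X.scheme} (hx : x ∈ C) (hxY : x ∈ Y) :
    WeilCoh.pdim X.scheme x ≤ WeilCoh.dim (pc X C Y).scheme := by
  obtain ⟨p, hp⟩ : x ∈ Set.range (toX X C Y) := by rw [range_toX]; exact ⟨hx, hxY⟩
  rw [← hp, ← pdim_pc]
  exact pdim_le_dim (fin _) p

lemma dim_pc_le {d : ℕ} (h : ∀ y ∈ C, y ∈ Y → WeilCoh.pdim X.scheme y ≤ d) :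
    WeilCoh.dim (pc X C Y).scheme ≤ d := by
  by_cases hne : Nonempty (pc X C Y).scheme
  · obtain ⟨p, hp⟩ := exists_pdim_eq_dim (fin (pc X C Y))
    rw [← hp, pdim_pc]
    obtain ⟨h1, h2⟩ := (range_toX X C Y) ▸ Set.mem_range_self (f := toX X C Y) p
    exact h _ h1 h2
  · have : IsEmpty (pc X C Y).scheme := not_nonempty_iff.mp hne
    have : topologicalKrullDim (pc X C Y).scheme = ⊥ :=
      Order.krullDim_eq_bot_iff.mpr ⟨fun s => by
        obtain ⟨z, -⟩ := s.isIrreducible.nonempty; exact isEmptyElim z⟩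
    simp [WeilCoh.dim, WeilCoh.natDim, this]

lemma dim_pc_eq {x : X.scheme} (hx : x ∈ C) (hxY : x ∈ Y)
    (h : ∀ y ∈ C, y ∈ Y → WeilCoh.pdim X.scheme y ≤ WeilCoh.pdim X.scheme x) :
    WeilCoh.dim (pc X C Y).scheme = WeilCoh.pdim X.scheme x :=
  le_antisymm (dim_pc_le h) (dim_le_pc hx hxY)

lemma dim_pc_clPt {x : X.scheme} (hxY : x ∈ Y) :
    WeilCoh.dim (pc X (clPt X x) Y).scheme = WeilCoh.pdim X.scheme x :=
  dim_pc_eq (subset_closure rfl) hxY fun _ hy _ =>
    pdim_le_of_specializes (fin X) (specializes_iff_mem_closure.mpr hy)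

variable (X)

lemma dim_open_le (Y : X.scheme.Opens) : WeilCoh.dim (Y : Scheme.{u}) ≤ WeilCoh.dim X.scheme :=
  natDim_le_of_isInducing Y.ι.isOpenEmbedding.isInducing (fin X)

lemma dim_open_mono {U Y : X.scheme.Opens} (h : U ≤ Y) :
    WeilCoh.dim (U : Scheme.{u}) ≤ WeilCoh.dim (Y : Scheme.{u}) :=
  natDim_le_of_isInducing (X.scheme.homOfLE h).isOpenEmbedding.isInducing (fin (X.res Y))

lemma dim_open_eq_of_le {U Y : X.scheme.Opens} (h : U ≤ Y)
    (hU : WeilCoh.dim (U : Scheme.{u}) = WeilCoh.dim X.scheme) :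
    WeilCoh.dim (Y : Scheme.{u}) = WeilCoh.dim X.scheme :=
  le_antisymm (dim_open_le X Y) (hU ▸ dim_open_mono X h)

lemma dim_open_of_codim_zero_mem {Y : X.scheme.Opens}
    (h : ∀ y : X.scheme, WeilCoh.codim X.scheme y = 0 → y ∈ Y) :
    WeilCoh.dim (Y : Scheme.{u}) = WeilCoh.dim X.scheme := by
  by_cases hne : Nonempty X.scheme
  · obtain ⟨x, hx⟩ := exists_pdim_eq_dim (fin X)
    have hxY : x ∈ Y := h x (by simp [WeilCoh.codim, hx])
    refine le_antisymm (dim_open_le X Y) ?_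
    rw [← hx]
    calc WeilCoh.pdim X.scheme x = WeilCoh.pdim (Y : Scheme.{u}) ⟨x, hxY⟩ :=
          pdim_eq_of_isOpenImmersion X Y.ι ⟨x, hxY⟩
      _ ≤ _ := pdim_le_dim (fin (X.res Y)) _
  · have : IsEmpty X.scheme := not_nonempty_iff.mp hne
    have : Y = ⊤ := by ext p; exact isEmptyElim p
    rw [this]; exact dim_top X.scheme

/-- The decomposition `Y = (C ∩ Y) ⊔ U`. -/
abbrev dec (C : Closeds X.scheme) {U Y : X.scheme.Opens} (hUY : U ≤ Y)
    (hU : ∀ p ∈ Y, p ∈ U ↔ p ∉ C)
    (hd : WeilCoh.dim (U : Scheme.{u}) = WeilCoh.dim (Y : Scheme.{u})) : Decomp (X.res Y) where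
  Z := pc X C Y
  U := X.res U
  i := pi X C Y
  closedImm := inferInstance
  j := X.resLE hUY hd
  range_eq := by
    rw [range_pi]
    apply Y.ι.isOpenEmbedding.injective.image_injective
    rw [← Set.range_comp, ← TopCat.coe_comp, ← Scheme.Hom.comp_base]
    show Set.range (X.scheme.homOfLE hUY ≫ Y.ι) = _
    rw [Scheme.homOfLE_ι, Scheme.Opens.range_ι, ← Set.preimage_compl,
      Set.image_preimage_eq_inter_range, Scheme.Opens.range_ι]
    ext p
    exact ⟨fun hp => ⟨(hU p (hUY hp)).mp hp, hUY hp⟩, fun hp => (hU p hp.2).mpr hp.1⟩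

end Groth.Agent.BMLib
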