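import Groth.Agent.BMLib.Diff
import Mathlib.AlgebraicGeometry.Morphisms.Finite

/-!
# A finite normalisation is an isomorphism over a nonempty open
-/

universe u

noncomputable section

open AlgebraicGeometry CategoryTheory CategoryTheory.Limits Topology TopologicalSpace Opposite

set_option linter.unusedSectionVars false
set_option linter.style.haveILetI false

namespace Groth.Agent.BMLib

variable {N S S' : Scheme.{u}}

/-- Injectivity and fractions on an affine open give an isomorphism over a basic open. -/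
lemma exists_isIso_restrict_of_fractions (ν : N ⟶ S) [IsFinite ν] {U : S.Opens}
    (hU : IsAffineOpen U) [IsDomain Γ(S, U)]
    (hinj : Function.Injective (ν.app U).hom)
    (hfrac : ∀ c : Γ(N, ν ⁻¹ᵁ U), ∃ a : Γ(S, U), a ≠ 0 ∧
      (ν.app U).hom a * c ∈ Set.range (ν.app U).hom) :
    ∃ a : Γ(S, U), a ≠ 0 ∧ IsIso (ν ∣_ S.basicOpen a) := by
  classical
  let g := (ν.app U).hom
  have hg : g.Finite := ν.finite_app U hU
  letI : Algebra Γ(S, U) Γ(N, ν ⁻¹ᵁ U) := g.toAlgebra
  haveI : Module.Finite Γ(S, U) Γ(N, ν ⁻¹ᵁ U) := hg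
  obtain ⟨s, hs⟩ := (Module.Finite.fg_top : (⊤ : Submodule Γ(S, U) Γ(N, ν ⁻¹ᵁ U)).FG)
  choose α hα hαm using hfrac
  let a := ∏ c ∈ s, α c
  have ha : a ≠ 0 := Finset.prod_ne_zero_iff.mpr fun c _ => hα c
  have hall : ∀ c : Γ(N, ν ⁻¹ᵁ U), ∃ d, g d = g a * c := by
    intro c
    have hc : c ∈ Submodule.span Γ(S, U) (s : Set Γ(N, ν ⁻¹ᵁ U)) := by rw [hs]; trivial
    induction hc using Submodule.span_induction with
    | mem c hc =>
      obtain ⟨d, hd⟩ := hαm c
      refine ⟨(∏ b ∈ s.erase c, α b) * d, ?_⟩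
      rw [map_mul, hd, ← mul_assoc, ← map_mul, mul_comm (∏ b ∈ s.erase c, α b) (α c),
        Finset.mul_prod_erase s α hc]
    | zero => exact ⟨0, by simp⟩
    | add x y _ _ hx hy =>
      obtain ⟨d, hd⟩ := hx
      obtain ⟨d', hd'⟩ := hy
      exact ⟨d + d', by rw [map_add, hd, hd', mul_add]⟩
    | smul r x _ hx =>
      obtain ⟨d, hd⟩ := hx
      refine ⟨r * d, ?_⟩
      rw [map_mul, hd, Algebra.smul_def]
      show g r * (g a * x) = g a * (g r * x)
      ring
  refine ⟨a, ha, (isIso_morphismRestrict_iff_isIso_app ν (hU.basicOpen a)).mpr ?_⟩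
  let V := S.basicOpen a
  have hle : V ≤ U := S.basicOpen_le a
  have hle' : ν ⁻¹ᵁ V ≤ ν ⁻¹ᵁ U := fun p hp => hle hp
  let rS := (S.presheaf.map (homOfLE hle).op).hom
  let rN := (N.presheaf.map (homOfLE hle').op).hom
  have nat : ∀ b, (ν.app V).hom (rS b) = rN (g b) := fun b => congr($(ν.naturality (homOfLE hle).op).hom b)
  have hS := hU.isLocalization_of_eq_basicOpen a (homOfLE hle) rfl
  have hN := (hU.preimage ν).isLocalization_of_eq_basicOpen (g a) (homOfLE hle')
    (Scheme.preimage_basicOpen ν a)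
  have hSs : ∀ y : Γ(S, V), ∃ (k : ℕ) (c : Γ(S, U)), y * rS a ^ k = rS c := by
    intro y
    letI := (S.presheaf.map (homOfLE hle).op).hom.toAlgebra
    haveI := hS
    obtain ⟨⟨c, ⟨_, k, rfl⟩⟩, h⟩ := IsLocalization.surj (Submonoid.powers a) y
    exact ⟨k, c, by rw [← map_pow]; exact h⟩
  have hu : IsUnit (rS a) := by
    letI := (S.presheaf.map (homOfLE hle).op).hom.toAlgebra
    haveI := hS
    exact IsLocalization.map_units (M := Submonoid.powers a) Γ(S, V) ⟨a, Submonoid.mem_powers a⟩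
  have hNs : ∀ y : Γ(N, ν ⁻¹ᵁ V), ∃ (k : ℕ) (c : Γ(N, ν ⁻¹ᵁ U)), y * rN (g a) ^ k = rN c := by
    intro y
    letI := (N.presheaf.map (homOfLE hle').op).hom.toAlgebra
    haveI := hN
    obtain ⟨⟨c, ⟨_, k, rfl⟩⟩, h⟩ := IsLocalization.surj (Submonoid.powers (g a)) y
    exact ⟨k, c, by rw [← map_pow]; exact h⟩
  have hNe : ∀ c, rN c = 0 → ∃ m : ℕ, g a ^ m * c = 0 := by
    intro c hc
    letI := (N.presheaf.map (homOfLE hle').op).hom.toAlgebra
    haveI := hN
    obtain ⟨⟨_, m, rfl⟩, hm⟩ := (IsLocalization.eq_iff_exists (Submonoid.powers (g a))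
      Γ(N, ν ⁻¹ᵁ V) (x := c) (y := 0)).mp (by rw [map_zero]; exact hc)
    exact ⟨m, by rwa [mul_zero] at hm⟩
  have hinjV : Function.Injective (ν.app V).hom := by
    rw [injective_iff_map_eq_zero]
    intro y hy
    obtain ⟨k, c, hk⟩ := hSs y
    have h0 : rN (g c) = 0 := by rw [← nat, ← hk, map_mul, hy, zero_mul]
    obtain ⟨m, hm⟩ := hNe _ h0
    rw [← map_pow, ← map_mul, ← map_zero g] at hm
    have hc : c = 0 := (mul_eq_zero.mp (hinj hm)).resolve_left (pow_ne_zero _ ha)
    rw [hc, map_zero] at hk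
    exact (hu.pow k).mul_left_eq_zero.mp hk
  have hsurjV : Function.Surjective (ν.app V).hom := by
    intro x
    obtain ⟨k, c, hk⟩ := hNs x
    obtain ⟨d, hd⟩ := hall c
    refine ⟨rS d * ↑((hu.pow (k + 1)).unit⁻¹), ?_⟩
    have h2 : (ν.app V).hom (rS d) = x * (ν.app V).hom (rS a ^ (k + 1)) := by
      rw [map_pow, nat, nat, hd, map_mul, ← hk]
      ring
    rw [map_mul, h2, mul_assoc, ← map_mul, IsUnit.mul_val_inv, map_one, mul_one]
  exact (ConcreteCategory.isIso_iff_bijective _).mpr ⟨hinjV, hsurjV⟩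

/-- The relative normalisation, when finite, is an isomorphism over a nonempty open as soon as the
sections upstairs are fractions of the sections downstairs. -/
lemma exists_isIso_fromNormalization (f : S' ⟶ S) [QuasiCompact f] [QuasiSeparated f]
    [IsFinite f.fromNormalization] {U : S.Opens} (hU : IsAffineOpen U) [IsDomain Γ(S, U)]
    (hinj : Function.Injective (f.app U).hom)
    (hfrac : ∀ x : Γ(S', f ⁻¹ᵁ U), ∃ a : Γ(S, U), a ≠ 0 ∧
      (f.app U).hom a * x ∈ Set.range (f.app U).hom) :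
    ∃ a : Γ(S, U), a ≠ 0 ∧ IsIso (f.fromNormalization ∣_ S.basicOpen a) := by
  letI := (f.app U).hom.toAlgebra
  let e := f.normalizationObjIso hU
  let ι := fun c => (Subalgebra.val (integralClosure Γ(S, U) Γ(S', f ⁻¹ᵁ U))) (e.hom.hom c)
  have hι : Function.Injective ι :=
    Subtype.val_injective.comp (ConcreteCategory.bijective_of_isIso e.hom).1
  have hcomp : ∀ b, e.hom.hom ((f.fromNormalization.app U).hom b) =
      algebraMap Γ(S, U) (integralClosure Γ(S, U) Γ(S', f ⁻¹ᵁ U)) b := by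
    intro b
    rw [f.fromNormalization_app hU]
    exact congr($(e.inv_hom_id).hom (algebraMap Γ(S, U) (integralClosure Γ(S, U) Γ(S', f ⁻¹ᵁ U)) b))
  have hιg : ∀ b, ι ((f.fromNormalization.app U).hom b) = (f.app U).hom b := fun b => by
    show Subalgebra.val _ (e.hom.hom _) = _
    rw [hcomp]; rfl
  refine exists_isIso_restrict_of_fractions f.fromNormalization hU
    (fun b b' h => hinj (by rw [← hιg, ← hιg, h])) fun c => ?_
  obtain ⟨a, ha, d, hd⟩ := hfrac (ι c)
  refine ⟨a, ha, d, hι ?_⟩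
  rw [hιg, hd]
  show _ = Subalgebra.val _ (e.hom.hom (_ * c))
  rw [map_mul, map_mul, ← hιg]

/-- A finite normalisation is an isomorphism over a nonempty open. -/
lemma exists_isIso_normalizationι (S : Scheme.{u}) [IsIntegral S]
    [QuasiCompact (S.fromSpecStalk (genericPoint S))]
    [QuasiSeparated (S.fromSpecStalk (genericPoint S))] [IsFinite (Curv2.normalizationι S)] :
    ∃ V : S.Opens, (V : Set S).Nonempty ∧ IsIso (Curv2.normalizationι S ∣_ V) := by
  obtain ⟨U, hU, hηU, -⟩ := exists_isAffineOpen_mem_and_subset (x := genericPoint S)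
    (U := ⊤) trivial
  have : Nonempty U := ⟨⟨_, hηU⟩⟩
  let f := S.fromSpecStalk (genericPoint S)
  have : IsFinite f.fromNormalization := (inferInstance : IsFinite (Curv2.normalizationι S))
  have htop : f ⁻¹ᵁ U = ⊤ := by
    refine top_le_iff.mp fun p _ => ?_
    have : f p ⤳ genericPoint S := by
      have : f p ∈ Set.range f := ⟨p, rfl⟩
      rwa [Scheme.range_fromSpecStalk] at this
    exact this.mem_open U.isOpen hηU
  have hiso : IsIso ((Spec (S.presheaf.stalk (genericPoint S))).presheaf.map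
      (homOfLE (le_top : f ⁻¹ᵁ U ≤ ⊤)).op) := by
    have : IsIso (homOfLE (le_top : f ⁻¹ᵁ U ≤ ⊤)) :=
      ⟨homOfLE htop.ge, rfl, rfl⟩
    infer_instance
  let τ := (Scheme.ΓSpecIso (S.presheaf.stalk (genericPoint S))).inv ≫
    (Spec (S.presheaf.stalk (genericPoint S))).presheaf.map (homOfLE (le_top : f ⁻¹ᵁ U ≤ ⊤)).op
  have : IsIso τ := inferInstance
  have hτ := ConcreteCategory.bijective_of_isIso τ
  have happ : ∀ a, (f.app U).hom a = τ.hom (algebraMap Γ(S, U) S.functionField a) := fun a => by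
    show (f.app U).hom a = _
    rw [Scheme.fromSpecStalk_app hηU]
    rfl
  haveI := functionField_isFractionRing_of_isAffineOpen S U hU
  obtain ⟨a, ha, hiso'⟩ := exists_isIso_fromNormalization f hU
    (fun b b' h => IsFractionRing.injective Γ(S, U) S.functionField
      (hτ.1 (by rw [← happ, ← happ, h])))
    (fun x => by
      obtain ⟨v, rfl⟩ := hτ.2 x
      obtain ⟨⟨c, ⟨a, ha⟩⟩, h⟩ := IsLocalization.surj (nonZeroDivisors Γ(S, U)) (v : S.functionField)
      refine ⟨a, nonZeroDivisors.ne_zero ha, c, ?_⟩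
      rw [happ, happ, ← h, ← map_mul, mul_comm])
  refine ⟨S.basicOpen a, ?_, hiso'⟩
  rw [← TopologicalSpace.Opens.ne_bot_iff_nonempty, ne_eq, basicOpen_eq_bot_iff]
  exact ha

end Groth.Agent.BMLib
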