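import Groth.Agent.BMLib.Cor

/-!
# Comparison through a closed subset of pure codimension
-/

universe u

noncomputable section

open AlgebraicGeometry CategoryTheory CategoryTheory.Limits Topology TopologicalSpace Opposite

set_option linter.unusedSectionVars false

namespace Groth.Agent.BMLib

open BMCoh

variable {V : ObjectProperty Scheme.{u}} [IsConstructible V] {X : Obj V}
variable {R : Type u} [CommRing R] {A : Coefs R} (T : PreTheory V R A) {M : A.Cat}
variable {i n : ℤ} {j m d : ℕ} {C : Closeds X.scheme} {U'' : X.scheme.Opens}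

/-- A closed subset of dimension `d` with its complement. -/
structure Split (C : Closeds X.scheme) (U'' : X.scheme.Opens) (j d : ℕ) : Prop where
  compl : ∀ p, p ∈ U'' ↔ p ∉ C
  fj : ContainsFj X j U''
  le : ∀ p ∈ C, WeilCoh.pdim X.scheme p ≤ d
  top : ∃ p ∈ C, WeilCoh.pdim X.scheme p = d
  add : d + (j + 1) = WeilCoh.dim X.scheme

lemma exists_split {U' : X.scheme.Opens} (hU' : ContainsFj X j U')
    (hj : j + 1 ≤ WeilCoh.dim X.scheme) :
    ∃ (C : Closeds X.scheme) (U'' : X.scheme.Opens),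
      U'' ≤ U' ∧ Split C U'' j (WeilCoh.dim X.scheme - (j + 1)) := by
  have : Nonempty X.scheme := by
    by_contra h
    have : IsEmpty X.scheme := not_nonempty_iff.mp h
    have : topologicalKrullDim X.scheme = ⊥ :=
      Order.krullDim_eq_bot_iff.mpr ⟨fun s => by
        obtain ⟨z, -⟩ := s.isIrreducible.nonempty; exact isEmptyElim z⟩
    simp [WeilCoh.dim, WeilCoh.natDim, this] at hj
  obtain ⟨q, hq⟩ := exists_pdim_eq_dim (fin X)
  obtain ⟨p, -, hp⟩ := exists_specializes_pdim_eq (fin X) q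
    (n := WeilCoh.dim X.scheme - (j + 1)) (by omega)
  let C : Closeds X.scheme :=
    ⟨(U' : Set X.scheme)ᶜ ∪ closure {p}, U'.isOpen.isClosed_compl.union isClosed_closure⟩
  refine ⟨C, ⟨(C : Set X.scheme)ᶜ, C.isClosed.isOpen_compl⟩,
    fun x hx => not_not.mp fun h => hx (Or.inl h), fun _ => Iff.rfl, fun x hx => ?_,
    fun x hx => ?_, ⟨p, Or.inr (subset_closure rfl), hp⟩, by omega⟩
  · rintro (h | h)
    · exact h (hU' x hx)
    · have := pdim_le_of_specializes (fin X) (specializes_iff_mem_closure.mpr h)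
      have := pdim_add_codim x
      omega
  · rcases hx with h | h
    · by_contra hlt
      have := pdim_add_codim x
      exact h (hU' x (by omega))
    · exact hp ▸ pdim_le_of_specializes (fin X) (specializes_iff_mem_closure.mpr h)

variable (S : Split C U'' j d)
include S

lemma Split.notMem {p : X.scheme} (hp : p ∈ C) : p ∉ U'' := fun h => (S.compl p).mp h hp

lemma Split.dim_pc {Y : X.scheme.Opens} (hY : ContainsFj X (j + 1 + m) Y) :
    WeilCoh.dim (pc X C Y).scheme = d := by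
  obtain ⟨p, hpC, hp⟩ := S.top
  rw [← hp]
  have := S.add
  have := pdim_add_codim p
  exact dim_pc_eq hpC (hY p (by omega)) fun y hy _ => hp.symm ▸ S.le y hy

lemma Split.codim_le (q : (pc X C ⊤).scheme) :
    WeilCoh.codim (pc X C ⊤).scheme q ≤ m ↔
      WeilCoh.codim X.scheme (toX X C ⊤ q) ≤ j + 1 + m := by
  have h1 := pdim_pc (X := X) C ⊤ q
  have h2 := S.dim_pc (m := m) (containsFj_top X _)
  have h3 := pdim_add_codim (toX X C ⊤ q)
  have h4 := S.le _ ((range_toX X C ⊤).subset (Set.mem_range_self q)).1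
  have := S.add
  unfold WeilCoh.codim at h3 ⊢
  omega

/-- A class on the closed part, whose level `m` groups vanish, dies on a smaller open. -/
lemma Split.exists_shrink {U : X.scheme.Opens} (hU : ContainsFj X (j + 1 + m) U) (hle : U'' ≤ U)
    (z : T.gp (pc X C U) M i n) (h0 : IsZero (T.fjGp (pc X C ⊤) m M i n)) :
    ∃ (Y : X.scheme.Opens) (_ : U'' ≤ Y) (hYU : Y ≤ U) (hY : ContainsFj X (j + 1 + m) Y),
      pl T (pcMor (le_refl C) hYU (fun _ hp => hp.1)
        ((S.dim_pc hY).trans (S.dim_pc hU).symm)) z = 0 := by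
  let W₁ : (pc X C ⊤).scheme.Opens := toX X C ⊤ ⁻¹ᵁ U
  have hW₁ : ContainsFj (pc X C ⊤) m W₁ := fun q hq => hU _ ((S.codim_le q).mp hq)
  have := isOpenImmersion_pcMap_of_left (X := X) (C := C) (le_top : U ≤ ⊤)
  have hr : Set.range (pcMap (le_refl C) (le_top : U ≤ ⊤)) ⊆ Set.range W₁.ι := by
    rw [range_pcMap, Scheme.Opens.range_ι]
    exact fun q hq => hq.2
  let e := IsOpenImmersion.lift W₁.ι (pcMap (le_refl C) (le_top : U ≤ ⊤)) hr
  have he : e ≫ W₁.ι = pcMap (le_refl C) le_top := IsOpenImmersion.lift_fac _ _ _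
  have : IsOpenImmersion e := by
    have : IsOpenImmersion (e ≫ W₁.ι) := by rw [he]; infer_instance
    exact IsOpenImmersion.of_comp e W₁.ι
  have : Surjective e := ⟨fun w => by
    have hw : W₁.ι w ∈ Set.range (pcMap (le_refl C) (le_top : U ≤ ⊤)) := by
      rw [range_pcMap]
      exact ⟨((range_toX X C ⊤).subset (Set.mem_range_self _)).1, w.2⟩
    obtain ⟨v, hv⟩ := hw
    refine ⟨v, W₁.ι.isOpenEmbedding.injective ?_⟩
    rw [← hv, ← he]; rfl⟩
  have : Epi e.base := (TopCat.epi_iff_surjective _).mpr (Scheme.Hom.surjective _)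
  have := IsOpenImmersion.isIso e
  let f : pc X C U ⟶ (pc X C ⊤).res W₁ :=
    ⟨e, inferInstance, (S.dim_pc hU).trans
      ((dim_of_containsFj hW₁).trans (S.dim_pc (m := m) (containsFj_top X _))).symm⟩
  have : IsIso f.hom := inferInstanceAs (IsIso e)
  obtain ⟨z', rfl⟩ := (pl_bijective_of_isIso T f).2 z
  obtain ⟨⟨W₂, hW₂, hd₂⟩, h₂, hz⟩ := (cl_eq_zero_iff T (fjDir (pc X C ⊤) m)
    (U := fjIdx W₁ hW₁) z').mp ((ModuleCat.isZero_iff_subsingleton.mp h0).elim _ _)
  have hemb : IsInducing (toX X C ⊤) :=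
    ((redι X C).isClosedEmbedding.isEmbedding.comp
      (pcOpen X C ⊤).ι.isOpenEmbedding.isEmbedding).isInducing
  obtain ⟨O, hO, hOW⟩ := hemb.isOpen_iff.mp W₂.isOpen
  let Y : X.scheme.Opens := U'' ⊔ U ⊓ ⟨O, hO⟩
  have hYU : Y ≤ U := sup_le hle inf_le_left
  have hY : ContainsFj X (j + 1 + m) Y := fun p hp => by
    by_cases hpC : p ∈ C
    · obtain ⟨q, rfl⟩ : p ∈ Set.range (toX X C ⊤) := by rw [range_toX]; exact ⟨hpC, trivial⟩
      exact Or.inr ⟨hU _ hp, hOW.symm.subset (hW₂ q ((S.codim_le q).mpr hp))⟩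
    · exact Or.inl ((S.compl p).mpr hpC)
  refine ⟨Y, le_sup_left, hYU, hY, ?_⟩
  have := isOpenImmersion_pcMap_of_left (X := X) (C := C) (le_top : Y ≤ ⊤)
  have hr₂ : Set.range (pcMap (le_refl C) (le_top : Y ≤ ⊤)) ⊆ Set.range W₂.ι := by
    rw [range_pcMap, Scheme.Opens.range_ι]
    intro q hq
    rcases hq.2 with h | h
    · exact absurd h (S.notMem hq.1)
    · exact hOW.subset h.2
  let g := IsOpenImmersion.lift W₂.ι (pcMap (le_refl C) (le_top : Y ≤ ⊤)) hr₂
  have hg : g ≫ W₂.ι = pcMap (le_refl C) le_top := IsOpenImmersion.lift_fac _ _ _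
  have : IsOpenImmersion g := by
    have : IsOpenImmersion (g ≫ W₂.ι) := by rw [hg]; infer_instance
    exact IsOpenImmersion.of_comp g W₂.ι
  let h : pc X C Y ⟶ (pc X C ⊤).res W₂ :=
    ⟨g, inferInstance, (S.dim_pc hY).trans (hd₂.trans (S.dim_pc (m := m) (containsFj_top X _))).symm⟩
  have key : pcMor (le_refl C) hYU (fun _ hp => hp.1) ((S.dim_pc hY).trans (S.dim_pc hU).symm) ≫ f =
      h ≫ idxHom (U := fjIdx W₁ hW₁) (U' := ⟨W₂, hW₂, hd₂⟩) h₂ := by
    refine Hom.ext ?_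
    show pcMap (le_refl C) hYU ≫ e = g ≫ (pc X C ⊤).scheme.homOfLE h₂
    rw [← cancel_mono W₁.ι, Category.assoc, he, Category.assoc, Scheme.homOfLE_ι, hg,
      ← cancel_mono (toX X C ⊤), Category.assoc, pcMap_toX, pcMap_toX, pcMap_toX]
  rw [← pl_comp, key, pl_comp, hz]
  simp [pl]

/-- The decomposition given by a split. -/
abbrev Split.dec {Y : X.scheme.Opens} (hle : U'' ≤ Y) : Decomp (X.res Y) :=
  BMLib.dec X C hle (fun p _ => S.compl p)
    ((dim_of_containsFj S.fj).trans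
      (dim_open_eq_of_le X hle (dim_of_containsFj S.fj)).symm)

lemma Split.relCodim {Y : X.scheme.Opens} (hY : ContainsFj X (j + 1 + m) Y) :
    BMCoh.relCodim (pc X C Y).scheme (X.res Y).scheme = (j : ℤ) + 1 := by
  have := S.dim_pc hY
  have := dim_of_containsFj hY
  have := S.add
  simp only [BMCoh.relCodim] at *
  omega

omit S

lemma fjRes_bijective_closed
    (hZ : ∀ (Z : Obj V) (ι : Z.scheme ⟶ X.scheme) [IsClosedImmersion ι] [IsReduced Z.scheme],
      WeilCoh.dim Z.scheme + (j + 1) = WeilCoh.dim X.scheme →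
      IsZero (T.fjGp Z m M (i - 2 * ((j : ℤ) + 1)) (n - ((j : ℤ) + 1))) ∧
      IsZero (T.fjGp Z m M (i + 1 - 2 * ((j : ℤ) + 1)) (n - ((j : ℤ) + 1)))) :
    Function.Bijective ((T.fjRes X (m := j + 1 + m)
      ((Nat.le_succ j).trans (Nat.le_add_right (j + 1) m)) i n).app M).hom := by
  have hmono : ∀ {U : X.scheme.Opens}, ContainsFj X (j + 1 + m) U → ContainsFj X j U :=
    fun hU y hy => hU y (by omega)
  by_cases hj : WeilCoh.dim X.scheme < j + 1
  · have hall : ∀ {U : X.scheme.Opens}, ContainsFj X j U → ContainsFj X (j + 1 + m) U :=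
      fun hU y _ => hU y (by unfold WeilCoh.codim; omega)
    refine ⟨fun w₁ w₂ h => sub_eq_zero.mp ?_, fun z => ?_⟩
    · have hw : ((T.fjRes X (m := j + 1 + m) ((Nat.le_succ j).trans (Nat.le_add_right (j + 1) m)) i n).app M).hom (w₁ - w₂) = 0 := by
        rw [map_sub, h, sub_self]
      generalize w₁ - w₂ = w at hw ⊢
      obtain ⟨⟨U, hU, hd⟩, a, rfl⟩ := exists_cl T (fjDir X _) w
      rw [ocolimMap_cl] at hw
      obtain ⟨⟨U', hU', hd'⟩, hle, ha⟩ := (cl_eq_zero_iff T (fjDir X j)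
        (U := fjIdx U (hmono hU)) a).mp hw
      exact (cl_eq_zero_iff T (fjDir X _) a).mpr ⟨fjIdx U' (hall hU'), hle, ha⟩
    · obtain ⟨⟨U, hU, hd⟩, a, rfl⟩ := exists_cl T (fjDir X j) z
      exact ⟨cl T (fjIdx U (hall hU)) a, ocolimMap_cl T _ _ _⟩
  have hz : ∀ {C : Closeds X.scheme} {U'' : X.scheme.Opens},
      Split C U'' j (WeilCoh.dim X.scheme - (j + 1)) →
      IsZero (T.fjGp (pc X C ⊤) m M (i - 2 * ((j : ℤ) + 1)) (n - ((j : ℤ) + 1))) ∧
      IsZero (T.fjGp (pc X C ⊤) m M (i + 1 - 2 * ((j : ℤ) + 1)) (n - ((j : ℤ) + 1))) := by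
    intro C U'' S
    have : IsIso (pcOpen X C ⊤).ι := inferInstanceAs (IsIso (red X C).scheme.topIso.hom)
    have : IsClosedImmersion (toX X C ⊤) := inferInstance
    refine hZ (pc X C ⊤) (toX X C ⊤) ?_
    rw [S.dim_pc (m := 0) (containsFj_top X _)]
    omega
  refine ⟨fun w₁ w₂ h => sub_eq_zero.mp ?_, fun z => ?_⟩
  · have hw : ((T.fjRes X (m := j + 1 + m) ((Nat.le_succ j).trans (Nat.le_add_right (j + 1) m)) i n).app M).hom (w₁ - w₂) = 0 := by
      rw [map_sub, h, sub_self]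
    generalize w₁ - w₂ = w at hw ⊢
    obtain ⟨⟨U, hU, hd⟩, a, rfl⟩ := exists_cl T (fjDir X _) w
    rw [ocolimMap_cl] at hw
    obtain ⟨⟨U', hU', hd'⟩, hle, ha⟩ := (cl_eq_zero_iff T (fjDir X j)
      (U := fjIdx U (hmono hU)) a).mp hw
    obtain ⟨C, U'', hle'', S⟩ := exists_split hU' (by omega)
    have h'' : U'' ≤ U := hle''.trans hle
    have hdeg : Deg (BMCoh.relCodim (pc X C U).scheme (X.res U).scheme)
        (i - 2 * ((j : ℤ) + 1)) (n - ((j : ℤ) + 1)) i n := by
      rw [S.relCodim hU]; exact ⟨by ring, by ring⟩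
    obtain ⟨b, hb⟩ := (pl_eq_zero_iff T (S.dec h'') hdeg a).mp (by
      show pl T (X.resLE h'' _) a = 0
      rw [← pl_resLE T hle'' hle ((dim_of_containsFj S.fj).trans hd'.symm) (hd'.trans hd.symm) a]
      exact (congrArg _ ha).trans (by simp [pl]))
    obtain ⟨Y, hUY, hYU, hY, h0⟩ := S.exists_shrink T hU h'' b (hz S).1
    refine (cl_eq_zero_iff T (fjDir X _) a).mpr ⟨fjIdx Y hY, hYU, ?_⟩
    rw [← hb]
    have hdeg' : Deg (BMCoh.relCodim (pc X C Y).scheme (X.res Y).scheme)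
        (i - 2 * ((j : ℤ) + 1)) (n - ((j : ℤ) + 1)) i n := by
      rw [S.relCodim hY]; exact ⟨by ring, by ring⟩
    show pl T (X.resLE hYU _) (pu T (pi X C U) hdeg b) = 0
    rw [pl_pu T (pi X C U) (pi X C Y) (X.resLE hYU ((dim_of_containsFj hY).trans (dim_of_containsFj hU).symm)) (pcMor (le_refl C) hYU (fun _ hp => hp.1) ((S.dim_pc hY).trans (S.dim_pc hU).symm)) (isPullback_pcMap (le_refl C) hYU fun _ hp => hp.1)
      hdeg hdeg' b]
    show pu T _ hdeg' (pl T (pcMor (le_refl C) hYU (fun _ hp => hp.1)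
      ((S.dim_pc hY).trans (S.dim_pc hU).symm)) b) = 0
    rw [h0]
    simp [pu]
  · obtain ⟨⟨U', hU', hd'⟩, a, rfl⟩ := exists_cl T (fjDir X j) z
    obtain ⟨C, U'', hle'', S⟩ := exists_split hU' (by omega)
    let a'' := pl T (X.resLE hle'' ((dim_of_containsFj S.fj).trans hd'.symm)) a
    have hdeg : RDeg (S.dec (le_top : U'' ≤ ⊤)).codim i n (i + 1 - 2 * ((j : ℤ) + 1))
        (n - ((j : ℤ) + 1)) := by
      rw [show (S.dec (le_top : U'' ≤ ⊤)).codim = _ from S.relCodim (m := m) (containsFj_top X _)]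
      exact ⟨rfl, rfl⟩
    obtain ⟨Y, hUY, hYU, hY, h0⟩ := S.exists_shrink T (containsFj_top X (j + 1 + m)) le_top
      (ru T (S.dec le_top) hdeg a'') (hz S).2
    have hdeg' : RDeg (S.dec hUY).codim i n (i + 1 - 2 * ((j : ℤ) + 1)) (n - ((j : ℤ) + 1)) := by
      rw [show (S.dec hUY).codim = _ from S.relCodim hY]
      exact ⟨rfl, rfl⟩
    have key := pl_ru T (S.dec (le_top : U'' ≤ ⊤)) (S.dec hUY)
      (X.resLE hYU ((dim_of_containsFj hY).trans (dim_top X.scheme).symm))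
      (pcMor (le_refl C) hYU (fun _ hp => hp.1)
        ((S.dim_pc hY).trans (S.dim_pc (m := m) (containsFj_top X _)).symm)) (𝟙 _)
      (pcMap_pi (le_refl C) hYU)
      (Hom.ext ((Category.id_comp _).trans (Scheme.homOfLE_homOfLE X.scheme hUY hYU).symm))
      hdeg hdeg' a''
    rw [h0, pl_id] at key
    obtain ⟨b, hb⟩ := (ru_eq_zero_iff T (S.dec hUY) hdeg' a'').mp key.symm
    refine ⟨cl T (fjIdx Y hY) b, ?_⟩
    rw [ocolimMap_cl, ← cl_pl T (U := ⟨U', hU', hd'⟩) (U' := fjIdx U'' S.fj) hle'' a]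
    rw [← cl_pl T (U := ⟨Y, hmono hY, dim_of_containsFj hY⟩) (U' := fjIdx U'' S.fj) hUY b]
    exact congrArg _ hb

end Groth.Agent.BMLib
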