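import Groth.Agent.BMLib.Grow

/-!
# Consequences: comparison maps and vanishing
-/

universe u

noncomputable section

open AlgebraicGeometry CategoryTheory CategoryTheory.Limits Topology TopologicalSpace Opposite

set_option linter.unusedSectionVars false

namespace Groth.Agent.BMLib

open BMCoh

variable {V : ObjectProperty Scheme.{u}} [IsConstructible V] {X : Obj V}
variable {R : Type u} [CommRing R] {A : Coefs R} (T : PreTheory V R A) {M : A.Cat}
variable {i n : ℤ}

/-- Restriction along an isomorphism is bijective. -/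
lemma pl_bijective_of_isIso {Z W : Obj V} (f : Z ⟶ W) [IsIso f.hom] :
    Function.Bijective (pl T f (M := M) (i := i) (n := n)) := by
  let g : W ⟶ Z := ⟨inv f.hom, inferInstance, f.dim_eq.symm⟩
  refine Function.bijective_iff_has_inverse.mpr ⟨pl T g, fun a => ?_, fun a => ?_⟩
  · rw [pl_pl T g f (𝟙 W) (IsIso.inv_hom_id f.hom), pl_id]
  · rw [pl_pl T f g (𝟙 Z) (IsIso.hom_inv_id f.hom), pl_id]

/-- Restriction to a big open is bijective. -/
lemma pl_resι_bijective (U : X.scheme.Opens)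
    (hd : WeilCoh.dim (U : Scheme.{u}) = WeilCoh.dim X.scheme)
    (h0 : ∀ x, x ∉ U → IsZero (T.ptGp X x M
      (i - 2 * (WeilCoh.codim X.scheme x : ℤ)) (n - (WeilCoh.codim X.scheme x : ℤ))))
    (h1 : ∀ x, x ∉ U → IsZero (T.ptGp X x M
      (i + 1 - 2 * (WeilCoh.codim X.scheme x : ℤ)) (n - (WeilCoh.codim X.scheme x : ℤ)))) :
    Function.Bijective (pl T (X.resι U hd) (M := M) (i := i) (n := n)) := by
  have : IsIso X.resTop.hom := inferInstanceAs (IsIso X.scheme.topIso.hom)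
  have e : ∀ a, pl T (X.resι U hd) a =
      pl T (X.resLE le_top (hd.trans (dim_top X.scheme).symm)) (pl T X.resTop (M := M) (i := i) (n := n) a) :=
    fun a => (pl_pl T _ _ _ (Scheme.homOfLE_ι X.scheme le_top) a).symm
  have hb : Function.Bijective
      (pl T (X.resLE (le_top : U ≤ ⊤) (hd.trans (dim_top X.scheme).symm)) (M := M) (i := i) (n := n)) := by
    refine ⟨fun a b hab => ?_, pl_surjective T ⊤ U le_top hd (dim_top _) fun x _ hx => h1 x hx⟩
    refine sub_eq_zero.mp (pl_injective T ⊤ U le_top hd (dim_top _) (fun x _ hx => h0 x hx) _ ?_)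
    simp only [pl] at hab ⊢
    rw [map_sub, hab, sub_self]
  exact funext e ▸ hb.comp (pl_bijective_of_isIso T X.resTop)

lemma toFj_bijective {j : ℕ} (h0 : ∀ x, j < WeilCoh.codim X.scheme x → IsZero (T.ptGp X x M
      (i - 2 * (WeilCoh.codim X.scheme x : ℤ)) (n - (WeilCoh.codim X.scheme x : ℤ))))
    (h1 : ∀ x, j < WeilCoh.codim X.scheme x → IsZero (T.ptGp X x M
      (i + 1 - 2 * (WeilCoh.codim X.scheme x : ℤ)) (n - (WeilCoh.codim X.scheme x : ℤ)))) :
    Function.Bijective ((T.toFj X j i n).app M).hom := by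
  have hU : ∀ U : Idx X (ContainsFj X j),
      Function.Bijective (pl T (X.resι U.1 U.2.2) (M := M) (i := i) (n := n)) := fun U =>
    pl_resι_bijective T U.1 U.2.2 (fun x hx => h0 x (Nat.lt_of_not_le fun h => hx (U.2.1 x h)))
      (fun x hx => h1 x (Nat.lt_of_not_le fun h => hx (U.2.1 x h)))
  have e : ∀ (U : Idx X (ContainsFj X j)) (a : T.gp X M i n),
      ((T.toFj X j i n).app M).hom a = cl T U (pl T (X.resι U.1 U.2.2) a) := by
    intro U a
    rw [← pl_pl T (idxHom (U := ⟨⊤, containsFj_top X j, dim_top X.scheme⟩) (U' := U) le_top)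
      X.resTop (X.resι U.1 U.2.2) (Scheme.homOfLE_ι X.scheme le_top), cl_pl T]
    rfl
  constructor
  · intro a b hab
    let U₀ : Idx X (ContainsFj X j) := ⟨⊤, containsFj_top X j, dim_top X.scheme⟩
    rw [e U₀, e U₀] at hab
    obtain ⟨W, h, h', he⟩ := (cl_eq_cl_iff T (fjDir X j) _ _).mp hab
    rw [pl_pl T (idxHom h) (X.resι U₀.1 U₀.2.2) (X.resι W.1 W.2.2) (Scheme.homOfLE_ι X.scheme h),
      pl_pl T (idxHom h') (X.resι U₀.1 U₀.2.2) (X.resι W.1 W.2.2) (Scheme.homOfLE_ι X.scheme h')] at he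
    exact (hU W).1 he
  · intro z
    obtain ⟨U, a, rfl⟩ := exists_cl T (fjDir X j) z
    obtain ⟨b, rfl⟩ := (hU U).2 a
    exact ⟨b, e U b⟩

lemma fjRes_injective {j : ℕ}
    (h0 : ∀ x : X.scheme, WeilCoh.codim X.scheme x = j + 1 →
      IsZero (T.ptGp X x M (i - 2 * ((j : ℤ) + 1)) (n - ((j : ℤ) + 1))))
    (w : T.fjGp X (j + 1) M i n)
    (hw : ((T.fjRes X (Nat.le_succ j) i n).app M).hom w = 0) : w = 0 := by
  obtain ⟨⟨U, hU, hd⟩, a, rfl⟩ := exists_cl T (fjDir X (j + 1)) w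
  rw [ocolimMap_cl] at hw
  obtain ⟨⟨U', hU', hd'⟩, hle, ha⟩ := (cl_eq_zero_iff T (fjDir X j)
    (U := fjIdx U (fun y hy => hU y (hy.trans (Nat.le_succ j)))) a).mp hw
  clear hw
  induction U' using WellFoundedGT.induction with
  | ind U' ih =>
    by_cases hS : ∃ x, WeilCoh.codim X.scheme x = j + 1 ∧ x ∉ U'
    · obtain ⟨x, hxc, hx⟩ := hS
      obtain ⟨Y, N, hYU⟩ := exists_nbd_le hle hd' hx (hU x hxc.le)
        (maximal_of_codim hU' hxc.le)
      obtain ⟨Y', N', hle', hb⟩ := exists_vanish T N (pl T (X.resLE hYU (N.dimY.trans hd.symm)) a)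
        ((pl_resLE T N.le hYU _ _ a).trans ha)
        (i' := i - 2 * ((j : ℤ) + 1)) (n' := n - ((j : ℤ) + 1))
        (by rw [hxc]; push_cast; exact ⟨by ring, by ring⟩) (h0 x hxc)
      exact ih Y' N'.lt (containsFj_of_le hU' N'.le) N'.dimY (hle'.trans hYU)
        ((pl_resLE T hle' hYU _ _ a).symm.trans hb)
    · push Not at hS
      have hU'' : ContainsFj X (j + 1) U' := fun y hy =>
        (Nat.lt_or_eq_of_le hy).elim (fun h => hU' y (Nat.lt_succ_iff.mp h)) (hS y)
      exact (cl_eq_zero_iff T (fjDir X (j + 1)) a).mpr ⟨fjIdx U' hU'', hle, ha⟩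

lemma fjRes_bijective {j : ℕ}
    (h0 : ∀ x : X.scheme, WeilCoh.codim X.scheme x = j + 1 →
      IsZero (T.ptGp X x M (i - 2 * ((j : ℤ) + 1)) (n - ((j : ℤ) + 1))))
    (h1 : ∀ x : X.scheme, WeilCoh.codim X.scheme x = j + 1 →
      IsZero (T.ptGp X x M (i + 1 - 2 * ((j : ℤ) + 1)) (n - ((j : ℤ) + 1)))) :
    Function.Bijective ((T.fjRes X (Nat.le_succ j) i n).app M).hom := by
  refine ⟨fun a b hab => ?_, fun z => exists_grow T z fun x U Y N _ a hxc _ hdeg =>
    (ModuleCat.isZero_iff_subsingleton.mp (h1 x hxc)).elim _ _⟩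
  exact sub_eq_zero.mp (fjRes_injective T h0 _ (by rw [map_sub, hab, sub_self]))

end Groth.Agent.BMLib
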