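import Groth.Agent.BMLib.Grow

/-!
# The induced data on representatives
-/

universe u

noncomputable section

open AlgebraicGeometry CategoryTheory CategoryTheory.Limits Topology TopologicalSpace Opposite

set_option linter.unusedSectionVars false

namespace Groth.Agent.BMLib

open BMCoh

variable {V : ObjectProperty Scheme.{u}} [IsConstructible V] {X : Obj V}
variable {R : Type u} [CommRing R] {A : Coefs R} {T : PreTheory V R A} {M : A.Cat}
variable {i n i' n' : ℤ} {j : ℕ}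

/-- The push-forward datum on a piece. -/
lemma pdata_cp (P : T.PushData X j) (x : X.cdPt j) (Y : X.scheme.Opens) (hxY : x.1 ∈ Y)
    (hY : ContainsFj X j Y) (hi : i' = i + 2 * (j : ℤ)) (hn : n' = n + (j : ℤ))
    (hdeg : Deg (relCodim (pc X (clPt X x.1) Y).scheme (X.res Y).scheme) i n i' n')
    (b : T.gp (pc X (clPt X x.1) Y) M i n) :
    (P.cpt x M i n i' n' hi hn).hom (cp T Y hxY b) =
      cl T (fjIdx Y hY) (pu T (pi X (clPt X x.1) Y) hdeg b) :=
  congr($(P.cpt_spec x M i n i' n' hi hn (fjIdx Y hY) (ptW Y hxY) (pi X (clPt X x.1) Y)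
    (pi_ι X (clPt X x.1) Y) hdeg.1 hdeg.2).hom b)

lemma deg_of_codim {x : X.scheme} {Y : X.scheme.Opens} (hxY : x ∈ Y) (hY : ContainsFj X j Y)
    {c : ℕ} (hc : WeilCoh.codim X.scheme x = c) (hi : i' = i + 2 * (c : ℤ)) (hn : n' = n + (c : ℤ)) :
    Deg (relCodim (pc X (clPt X x) Y).scheme (X.res Y).scheme) i n i' n' := by
  rw [relCodim_pc hxY (dim_of_containsFj hY), hc]; exact ⟨hi, hn⟩

/-- The residue datum near a point. -/
lemma rdata_cl (Q : T.ResData X j) (x : X.cdPt (j + 1)) {U Y : X.scheme.Opens} (N : Nbd x.1 U Y)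
    (hU : ContainsFj X j U) (hi : i' = i + 1 - 2 * ((j : ℤ) + 1)) (hn : n' = n - ((j : ℤ) + 1))
    (hdeg : RDeg N.dec.codim i n i' n') (a : T.gp (X.res U) M i n) :
    (Q.cpt x M i n i' n' hi hn).hom (cl T (fjIdx U hU) a) = cp T Y N.mem (ru T N.dec hdeg a) := by
  have key := congr($(Q.cpt_spec x M i n i' n' hi hn (X.resι Y N.dimY) N.dec (ptW Y N.mem)
    (𝟙 _) ((Category.id_comp _).trans (pi_ι X (clPt X x.1) Y)) (fjIdx U hU) (𝟙 _)
    ((Category.id_comp _).trans (Scheme.homOfLE_ι X.scheme N.le)) hdeg.1 hdeg.2).hom a)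
  simpa [PreTheory.pull, cl, cp, ru] using key

lemma rdeg_of_codim {x : X.scheme} {U Y : X.scheme.Opens} (N : Nbd x U Y)
    (hc : WeilCoh.codim X.scheme x = j + 1)
    (hi : i' = i + 1 - 2 * ((j : ℤ) + 1)) (hn : n' = n - ((j : ℤ) + 1)) :
    RDeg N.dec.codim i n i' n' := by
  rw [N.codim_eq, hc]; push_cast; exact ⟨hi, hn⟩

/-- No residue at a point of the open of definition. -/
lemma rdata_zero (Q : T.ResData X j) (x : X.cdPt (j + 1)) {U : X.scheme.Opens}
    (hU : ContainsFj X j U) (hxU : x.1 ∈ U) (hi : i' = i + 1 - 2 * ((j : ℤ) + 1))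
    (hn : n' = n - ((j : ℤ) + 1)) (a : T.gp (X.res U) M i n) :
    (Q.cpt x M i n i' n' hi hn).hom (cl T (fjIdx U hU) a) = 0 := by
  have hU' : ContainsFj X j (sdiffC U (clPt X x.1)) := containsFj_sdiff hU (by rw [x.2]; omega)
  have N : Nbd x.1 (sdiffC U (clPt X x.1)) U := nbd_sdiff hxU (dim_of_containsFj hU')
  have hdeg := rdeg_of_codim N x.2 hi hn
  rw [← cl_pl T (U := fjIdx U hU) (U' := fjIdx _ hU') (sdiffC_le _ _) a,
    rdata_cl Q x N hU' hi hn hdeg, (ru_eq_zero_iff T N.dec hdeg _).mpr ⟨a, rfl⟩]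
  simp [cp, cl]

theorem subsingleton_pushData : Subsingleton (T.PushData X j) := by
  refine ⟨fun P P' => ?_⟩
  have : P.cpt = P'.cpt := by
    funext x M i n i' n' hi hn
    refine ModuleCat.hom_ext (LinearMap.ext fun z => ?_)
    obtain ⟨Y, hxY, b, hY, rfl⟩ := exists_cp T z x.2.ge
    have hdeg := deg_of_codim hxY hY x.2 hi hn
    rw [pdata_cp P x Y hxY hY hi hn hdeg, pdata_cp P' x Y hxY hY hi hn hdeg]
  cases P; cases P'; congr

theorem subsingleton_resData : Subsingleton (T.ResData X j) := by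
  refine ⟨fun Q Q' => ?_⟩
  have : Q.cpt = Q'.cpt := by
    funext x M i n i' n' hi hn
    refine ModuleCat.hom_ext (LinearMap.ext fun z => ?_)
    obtain ⟨⟨U, hU, hd⟩, a, rfl⟩ := exists_cl T (fjDir X j) z
    by_cases hxU : x.1 ∈ U
    · rw [rdata_zero Q x hU hxU, rdata_zero Q' x hU hxU]
    · obtain ⟨Y, N⟩ := exists_nbd hd hxU (maximal_of_codim hU x.2.le)
      rw [rdata_cl Q x N hU hi hn (rdeg_of_codim N x.2 hi hn),
        rdata_cl Q' x N hU hi hn (rdeg_of_codim N x.2 hi hn)]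
  cases Q; cases Q'; congr

/-- A class at level `j` without residues comes from level `j + 1`. -/
theorem exact_fjRes_resTot (Q : T.ResData X j) (hi : i' = i + 1 - 2 * ((j : ℤ) + 1))
    (hn : n' = n - ((j : ℤ) + 1)) :
    Function.Exact ((T.fjRes X (Nat.le_succ j) i n).app M).hom (Q.tot M i n i' n' hi hn).hom := by
  intro z
  constructor
  · intro hz
    refine exists_grow T z fun x U Y N hU a hxc haz hdeg => ?_
    subst hi hn
    rw [← rdata_cl Q ⟨x, hxc⟩ N hU rfl rfl hdeg a, haz, ← Q.tot_apply M i n _ _ rfl rfl z ⟨x, hxc⟩,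
      hz]
    rfl
  · rintro ⟨w, rfl⟩
    obtain ⟨⟨U, hU, hd⟩, a, rfl⟩ := exists_cl T (fjDir X (j + 1)) w
    rw [ocolimMap_cl]
    refine DFinsupp.ext fun x => ?_
    rw [Q.tot_apply]
    exact rdata_zero Q x (fun y hy => hU y (hy.trans (Nat.le_succ j))) (hU x.1 x.2.le) hi hn a

lemma isIso_ptMor {x : X.scheme} {Y Y' : X.scheme.Opens} (h : Y' ≤ Y) (hx : x ∈ Y')
    (hsub : ∀ p ∈ Y, p ∈ clPt X x → p ∈ Y') : IsIso (ptMor (X := X) h hx).hom := by
  show IsIso (pcMap (le_refl _) h)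
  have := isOpenImmersion_pcMap_of_left (X := X) (C := clPt X x) h
  have : Surjective (pcMap (le_refl (clPt X x)) h) := ⟨by
    rw [← Set.range_eq_univ, range_pcMap, Set.eq_univ_iff_forall]
    intro p
    have hp : toX X (clPt X x) Y p ∈ (clPt X x : Set X.scheme) ∩ Y :=
      range_toX X (clPt X x) Y ▸ Set.mem_range_self p
    exact ⟨hp.1, hsub _ hp.2 hp.1⟩⟩
  have : Epi (pcMap (le_refl (clPt X x)) h).base :=
    (TopCat.epi_iff_surjective _).mpr (Scheme.Hom.surjective _)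
  exact IsOpenImmersion.isIso _

/-- A class vanishing at level `j` is a sum of push-forwards. -/
theorem exact_pushTot_fjRes (P : T.PushData X (j + 1)) (hi : i' = i + 2 * ((j + 1 : ℕ) : ℤ))
    (hn : n' = n + ((j + 1 : ℕ) : ℤ)) :
    Function.Exact (P.tot M i n i' n' hi hn).hom
      ((T.fjRes X (Nat.le_succ j) i' n').app M).hom := by
  classical
  have hzero : ∀ (x : X.cdPt (j + 1)) (b : T.ptGp X x.1 M i n),
      ((T.fjRes X (Nat.le_succ j) i' n').app M).hom ((P.cpt x M i n i' n' hi hn).hom b) = 0 := by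
    intro x b
    obtain ⟨Y, hxY, c, hY, rfl⟩ := exists_cp T b x.2.ge
    have hdeg := deg_of_codim hxY hY x.2 hi hn
    rw [pdata_cp P x Y hxY hY hi hn hdeg, ocolimMap_cl]
    have hU' : ContainsFj X j (sdiffC Y (clPt X x.1)) :=
      containsFj_sdiff (fun y hy => hY y (hy.trans (Nat.le_succ j))) (by rw [x.2]; omega)
    have N : Nbd x.1 (sdiffC Y (clPt X x.1)) Y := nbd_sdiff hxY (dim_of_containsFj hU')
    have h1 : pl T (X.resLE N.le (N.dim.trans N.dimY.symm))
        (pu T (pi X (clPt X x.1) Y) hdeg c) = 0 := pl_pu_self T N.dec hdeg c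
    refine (cl_eq_zero_iff T (fjDir X j) _).mpr ⟨fjIdx _ hU', N.le, h1⟩
  intro z
  constructor
  · intro hz
    obtain ⟨⟨U, hU, hd⟩, a, rfl⟩ := exists_cl T (fjDir X (j + 1)) z
    rw [ocolimMap_cl] at hz
    obtain ⟨⟨U', hU', hd'⟩, hle, ha⟩ := (cl_eq_zero_iff T (fjDir X j) (U := fjIdx U (fun y hy => hU y (hy.trans (Nat.le_succ j)))) a).mp hz
    clear hz
    induction U' using WellFoundedGT.induction generalizing U with
    | ind U' ih =>
      by_cases hS : ∃ x, WeilCoh.codim X.scheme x = j + 1 ∧ x ∉ U'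
      · obtain ⟨x, hxc, hx⟩ := hS
        obtain ⟨Y, N, hYU⟩ := exists_nbd_le hle hd' hx (hU x hxc.le)
          (maximal_of_codim hU' hxc.le)
        let U₂ : X.scheme.Opens :=
          U ⊓ (Y ⊔ ⟨(closure ({x} : Set X.scheme))ᶜ, isClosed_closure.isOpen_compl⟩)
        have hU₂ : ContainsFj X (j + 1) U₂ := fun y hy => ⟨hU y hy, by
          by_cases hyc : y ∈ closure ({x} : Set X.scheme)
          · by_cases hyx : x = y
            · exact Or.inl (hyx ▸ N.mem)
            · have := codim_lt_of_specializes (specializes_iff_mem_closure.mpr hyc) hyx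
              omega
          · exact Or.inr hyc⟩
        have hY₂ : Y ≤ U₂ := le_inf hYU le_sup_left
        have hsub : ∀ p ∈ U₂, p ∈ clPt X x → p ∈ Y := fun p hp hc =>
          hp.2.resolve_right fun h => h hc
        have hd₂ := dim_of_containsFj hU₂
        have hdeg := deg_of_codim (x := x) (Y := Y) N.mem (containsFj_of_le hU' N.le) hxc hi hn
        have hdeg₂ := deg_of_codim (x := x) (Y := U₂) (hY₂ N.mem) hU₂ hxc hi hn
        obtain ⟨b, hb⟩ := exists_pu T N (pl T (X.resLE hYU (N.dimY.trans hd.symm)) a)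
          ((pl_resLE T N.le hYU _ _ a).trans ha) hdeg
        have := isIso_ptMor hY₂ N.mem hsub
        let b₂ : T.gp (pc X (clPt X x) U₂) M i n :=
          pu T (ptMor hY₂ N.mem).hom (deg_zero (ptMor hY₂ N.mem)) b
        let a₂ : T.gp (X.res U₂) M i' n' :=
          pl T (X.resLE inf_le_left (hd₂.trans hd.symm)) a - pu T (pi X (clPt X x) U₂) hdeg₂ b₂
        have hva : pl T (X.resLE hY₂ (N.dimY.trans hd₂.symm)) a₂ = 0 := by
          simp only [a₂, pl, map_sub]
          rw [sub_eq_zero]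
          show pl T _ (pl T _ a) = pl T _ (pu T _ hdeg₂ b₂)
          rw [pl_resLE T hY₂ inf_le_left, pl_pu_pt T hY₂ N.mem _ hdeg₂ hdeg b₂, pl_pu_retract T]
          exact hb.symm
        obtain ⟨ξ, hξ⟩ := ih Y N.lt U₂ hU₂ hd₂ a₂ (containsFj_of_le hU' N.le) N.dimY hY₂ hva
        refine ⟨ξ + DirectSum.lof R _ (fun y : X.cdPt (j + 1) => T.ptGp X y.1 M i n) ⟨x, hxc⟩
          (cp T U₂ (hY₂ N.mem) b₂), ?_⟩
        rw [map_add, hξ, P.tot_lof, pdata_cp P ⟨x, hxc⟩ U₂ (hY₂ N.mem) hU₂ hi hn hdeg₂]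
        rw [← cl_pl T (U := ⟨U, hU, hd⟩) (U' := fjIdx U₂ hU₂) inf_le_left a]
        simp [cl, a₂]
      · push Not at hS
        have hU'' : ContainsFj X (j + 1) U' := fun y hy =>
          (Nat.lt_or_eq_of_le hy).elim (fun h => hU' y (Nat.lt_succ_iff.mp h)) (hS y)
        refine ⟨0, ?_⟩
        rw [map_zero, eq_comm]
        exact (cl_eq_zero_iff T (fjDir X (j + 1)) a).mpr ⟨fjIdx U' hU'', hle, ha⟩
  · rintro ⟨ξ, rfl⟩
    induction ξ using DirectSum.induction_on with
    | zero => simp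
    | of x b =>
      rw [← DirectSum.lof_eq_of R]
      rw [P.tot_lof]; exact hzero x b
    | add a b ha hb => rw [map_add, map_add, ha, hb, add_zero]

end Groth.Agent.BMLib
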