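import Groth.Agent.BMLib.Over

/-!
# Residue after push-forward: the differential
-/

universe u

noncomputable section

open AlgebraicGeometry CategoryTheory CategoryTheory.Limits Topology TopologicalSpace Opposite

set_option linter.unusedSectionVars false

namespace Groth.Agent.BMLib

open BMCoh

variable {V : ObjectProperty Scheme.{u}} [IsConstructible V] {Y X : Obj V}

lemma mem_of_mem_clS {c : ℕ} {s : Finset (X.cdPt c)} {x : X.cdPt c} (h : x.1 ∈ clS s) : x ∈ s := by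
  obtain ⟨y, hy, hyx⟩ := mem_clS.mp h
  have : y = x := Subtype.ext (by
    by_contra hne
    have := codim_lt_of_specializes hyx hne
    have := x.2
    have := y.2
    omega)
  exact this ▸ hy

section geom

variable [IsIntegral Y.scheme]

lemma pdim_genericPoint (Y : Obj V) [IsIntegral Y.scheme] :
    WeilCoh.pdim Y.scheme (genericPoint Y.scheme) = WeilCoh.dim Y.scheme := by
  refine le_antisymm (pdim_le_dim (fin Y) _) ?_
  obtain ⟨p, hp⟩ := exists_pdim_eq_dim (fin Y)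
  exact hp ▸ pdim_le_of_specializes (fin Y) (genericPoint_specializes p)

lemma codim_genericPoint (Y : Obj V) [IsIntegral Y.scheme] :
    WeilCoh.codim Y.scheme (genericPoint Y.scheme) = 0 := by
  simp [WeilCoh.codim, pdim_genericPoint]

variable {φ : Y.scheme ⟶ X.scheme} {q : ℕ} {w : X.cdPt q}

lemma codim_map (hpd : ∀ p, WeilCoh.pdim X.scheme (φ p) = WeilCoh.pdim Y.scheme p)
    (hη : φ (genericPoint Y.scheme) = w.1) (p : Y.scheme) :
    WeilCoh.codim X.scheme (φ p) = WeilCoh.codim Y.scheme p + q := by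
  have h1 := hpd p
  have h2 := hpd (genericPoint Y.scheme)
  rw [hη, pdim_genericPoint] at h2
  have h3 := pdim_add_codim w.1
  have h4 := pdim_add_codim p
  have h5 := pdim_add_codim (φ p)
  have h6 := w.2
  omega

/-- The geometric input of the comparison. -/
structure DiffData (φ : Y.scheme ⟶ X.scheme) (q : ℕ) (OY : Y.scheme.Opens) where
  sX : Finset (X.cdPt (q + 1))
  sY : Finset (Y.cdPt 1)
  Y2 : X.scheme.Opens
  SX : Sep sX Y2
  SY : Sep sY (φ ⁻¹ᵁ Y2)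
  eqU : sdiffC (φ ⁻¹ᵁ Y2) (clS sY) = φ ⁻¹ᵁ sdiffC Y2 (clS sX)
  leO : sdiffC (φ ⁻¹ᵁ Y2) (clS sY) ≤ OY
  lift : ∀ x ∈ sX, ∃ y ∈ sY, φ y.1 = x.1
  map : ∀ y ∈ sY, ∃ x ∈ sX, φ y.1 = x.1

lemma exists_diffData [IsProper φ]
    (hpd : ∀ p, WeilCoh.pdim X.scheme (φ p) = WeilCoh.pdim Y.scheme p)
    (hη : φ (genericPoint Y.scheme) = w.1) {OY : Y.scheme.Opens} (hO : genericPoint Y.scheme ∈ OY) :
    Nonempty (DiffData φ q OY) := by
  classical
  have hcd := codim_map hpd hη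
  let Y1 : X.scheme.Opens :=
    ⟨(φ '' (OY : Set Y.scheme)ᶜ)ᶜ, (φ.isClosedMap _ OY.isOpen.isClosed_compl).isOpen_compl⟩
  have hY1 : ∀ p, φ p ∈ Y1 → p ∈ OY := fun p hp => not_not.mp fun h => hp ⟨p, h, rfl⟩
  have hY1fj : ContainsFj X q Y1 := by
    rintro _ hp ⟨p, hpO, rfl⟩
    have hne : genericPoint Y.scheme ≠ p := fun e => hpO (e ▸ hO)
    have := codim_lt_of_specializes (genericPoint_specializes p) hne
    have := hcd p
    omega
  let sX : Finset (X.cdPt (q + 1)) := (Set.Finite.preimage Subtype.val_injective.injOn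
    (finite_maximal Y1)).toFinset
  have hsX : ∀ x : X.cdPt (q + 1), x.1 ∉ Y1 → x ∈ sX := fun x hx =>
    (Set.Finite.mem_toFinset _).mpr ⟨hx, maximal_of_codim hY1fj x.2.le⟩
  have hsX' : ∀ x ∈ sX, x.1 ∉ Y1 := fun x hx => ((Set.Finite.mem_toFinset _).mp hx).1
  choose O hxO hOsub using fun x : sX =>
    exists_open_sub (hsX' x.1 x.2) (maximal_of_codim hY1fj x.1.2.le)
  have hX₀ : ContainsFj X (q + 1) (Y1 ⊔ ⨆ x : sX, O x) := fun p hp => by
    by_cases hpU : p ∈ Y1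
    · exact Or.inl hpU
    · have hpc : WeilCoh.codim X.scheme p = q + 1 := by
        by_contra hne'
        exact hpU (hY1fj p (by omega))
      exact Or.inr (Opens.mem_iSup.mpr ⟨⟨⟨p, hpc⟩, hsX _ hpU⟩, hxO _⟩)
  obtain ⟨Y2', hY2le, S2, -⟩ := exists_sep sX hX₀
  have hYfj : ContainsFj Y 0 (φ ⁻¹ᵁ Y1) := fun p hp => hY1fj _ (by have := hcd p; omega)
  let sY : Finset (Y.cdPt 1) := (Set.Finite.preimage Subtype.val_injective.injOn
    (finite_maximal (φ ⁻¹ᵁ Y1))).toFinset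
  have hsY : ∀ y : Y.cdPt 1, φ y.1 ∉ Y1 → y ∈ sY := fun y hy =>
    (Set.Finite.mem_toFinset _).mpr ⟨hy, maximal_of_codim hYfj y.2.le⟩
  have hsY' : ∀ y ∈ sY, φ y.1 ∉ Y1 := fun y hy => ((Set.Finite.mem_toFinset _).mp hy).1
  have hmap : ∀ y ∈ sY, ∃ x ∈ sX, φ y.1 = x.1 := fun y hy =>
    ⟨⟨φ y.1, by rw [hcd, y.2]; omega⟩, hsX _ (hsY' y hy), rfl⟩
  choose OY' hyO hOYsub using fun y : sY =>
    exists_open_sub (U := φ ⁻¹ᵁ Y1) (hsY' y.1 y.2) (maximal_of_codim hYfj y.1.2.le)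
  have hY₀ : ContainsFj Y 1 (φ ⁻¹ᵁ Y1 ⊔ ⨆ y : sY, OY' y) := fun p hp => by
    by_cases hpU : p ∈ φ ⁻¹ᵁ Y1
    · exact Or.inl hpU
    · have hpc : WeilCoh.codim Y.scheme p = 1 := by
        by_contra hne'
        exact hpU (hYfj p (by omega))
      exact Or.inr (Opens.mem_iSup.mpr ⟨⟨⟨p, hpc⟩, hsY _ hpU⟩, hyO _⟩)
  obtain ⟨Yv', hYvle, SY', -⟩ := exists_sep sY hY₀
  let Y2 : X.scheme.Opens := Y2' ⊓
    ⟨(φ '' (Yv' : Set Y.scheme)ᶜ)ᶜ, (φ.isClosedMap _ Yv'.isOpen.isClosed_compl).isOpen_compl⟩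
  have hY2 : ContainsFj X (q + 1) Y2 := fun p hp => ⟨S2.fj p hp, by
    rintro ⟨r, hr, rfl⟩
    exact hr (SY'.fj r (by have := hcd r; omega))⟩
  have hYv : φ ⁻¹ᵁ Y2 ≤ Yv' := fun p hp => not_not.mp fun h => hp.2 ⟨p, h, rfl⟩
  have hYvfj : ContainsFj Y 1 (φ ⁻¹ᵁ Y2) := fun p hp => hY2 _ (by have := hcd p; omega)
  have hX1 : ∀ p ∈ Y1, p ∉ clS sX := fun p hp hc => by
    obtain ⟨x, hx, hxp⟩ := mem_clS.mp hc
    exact hsX' x hx (hxp.mem_open Y1.isOpen hp)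
  have hU : sdiffC Y2 (clS sX) ≤ Y1 := fun p hp => by
    rcases hY2le hp.1.1 with h | h
    · exact h
    · obtain ⟨x, hx⟩ := Opens.mem_iSup.mp h
      by_contra hpU
      exact hp.2 (mem_clS.mpr ⟨x.1, x.2, hOsub x p hx hpU⟩)
  have heq : sdiffC (φ ⁻¹ᵁ Y2) (clS sY) = φ ⁻¹ᵁ sdiffC Y2 (clS sX) := by
    ext p
    constructor
    · rintro ⟨hp, hpc⟩
      refine ⟨hp, hX1 _ ?_⟩
      rcases hYvle (hYv hp) with h | h
      · exact h
      · obtain ⟨y, hy⟩ := Opens.mem_iSup.mp h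
        by_contra hpU
        exact hpc (mem_clS.mpr ⟨y.1, y.2, hOYsub y p hy hpU⟩)
    · rintro ⟨hp, hpc⟩
      refine ⟨hp, fun h => ?_⟩
      obtain ⟨y, hy, hyp⟩ := mem_clS.mp h
      obtain ⟨x, hx, hxy⟩ := hmap y hy
      exact hpc (mem_clS.mpr ⟨x, hx, hxy ▸ hyp.map φ.continuous⟩)
  refine ⟨⟨sX, sY, Y2, S2.mono inf_le_left hY2, SY'.mono hYv hYvfj, heq, fun p hp => ?_,
    fun x hx => ?_, hmap⟩⟩
  · exact hY1 p (hU (show φ p ∈ sdiffC Y2 (clS sX) from heq.le hp))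
  · obtain ⟨r, -, hr⟩ : x.1 ∈ φ '' (OY : Set Y.scheme)ᶜ := not_not.mp (hsX' x hx)
    have := hcd r
    rw [hr, x.2] at this
    exact ⟨⟨r, by omega⟩, hsY _ (by show φ r ∉ Y1; rw [hr]; exact hsX' x hx), hr⟩

end geom

/-- The normalisation morphism is affine. -/
lemma isAffineHom_normalizationι (S : Scheme.{u}) [IsIntegral S]
    [QuasiCompact (S.fromSpecStalk (genericPoint S))]
    [QuasiSeparated (S.fromSpecStalk (genericPoint S))] :
    IsAffineHom (Curv2.normalizationι S) := by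
  have : IsIntegralHom (Curv2.normalizationι S) :=
    inferInstanceAs (IsIntegralHom (S.fromSpecStalk (genericPoint S)).fromNormalization)
  infer_instance

section main

variable [IsIntegral Y.scheme] {R : Type u} [CommRing R] {A : Coefs R} {T : PreTheory V R A}
variable {φ : Y.scheme ⟶ X.scheme} [IsProper φ] {q : ℕ} {w : X.cdPt q} {M : A.Cat} {i n : ℤ}
variable {OY : Y.scheme.Opens}

lemma pcMap_phi {C C₂ : Closeds Y.scheme} {C' C₂' : Closeds X.scheme} {W : Y.scheme.Opens}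
    {U : X.scheme.Opens} (hC : ∀ p ∈ C, φ p ∈ C') (hC₂ : ∀ p ∈ C₂, φ p ∈ C₂') (h : C₂ ≤ C)
    (h' : C₂' ≤ C') (hW : W = φ ⁻¹ᵁ U) :
    pcMap h (le_refl W) ≫ phiMap φ hC hW = phiMap φ hC₂ hW ≫ pcMap h' (le_refl U) := by
  rw [← cancel_mono (toX X C' U)]
  simp only [Category.assoc, phiMap_toX, pcMap_toX, pcMap_toX_assoc]

open Classical in
/-- The comparison on one representative. -/
lemma resTot_pushCpt_rep
    (hred : ∀ (S : BMCoh.Obj V) (D D'' : BMCoh.Decomp S) (gU : D''.U ⟶ D.U)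
      (k : D''.Z.scheme ⟶ D.Z.scheme) [IsClosedImmersion k] [AlgebraicGeometry.Surjective k],
      gU ≫ D.j = D''.j → k ≫ D.i = D''.i →
      ∀ (M : A.Cat) (i n i' n' : ℤ) (hi : i' = i + 1 - 2 * D.codim) (hn : n' = n - D.codim)
        (hi'' : i' = i + 1 - 2 * D''.codim) (hn'' : n' = n - D''.codim)
        (hk : i' = i' + 2 * BMCoh.relCodim D''.Z.scheme D.Z.scheme)
        (hk' : n' = n' + BMCoh.relCodim D''.Z.scheme D.Z.scheme),
      T.pull gU M i n ≫ T.res D'' M i n i' n' hi'' hn'' ≫ T.push k M i' n' i' n' hk hk' =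
        T.res D M i n i' n' hi hn)
    (hpd : ∀ p, WeilCoh.pdim X.scheme (φ p) = WeilCoh.pdim Y.scheme p)
    (hφη : φ (genericPoint Y.scheme) = w.1) (G : DiffData φ q OY) (hne : G.sX.Nonempty)
    (Q : T.ResData X q) (Q' : T.ResData Y 0) (t : Y.cdPt 1 → X.cdPt (q + 1))
    (F : ∀ y : Y.cdPt 1, T.PtPush φ y.1 (t y).1)
    {i₁ n₁ i₂ n₂ : ℤ} (h1 : Deg (q : ℤ) i n i₁ n₁)
    (h2 : i₂ = i₁ + 1 - 2 * ((q : ℤ) + 1)) (h2' : n₂ = n₁ - ((q : ℤ) + 1))
    (h4 : i₂ = i + 1 - 2 * (((0 : ℕ) : ℤ) + 1)) (h4' : n₂ = n - (((0 : ℕ) : ℤ) + 1))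
    (hfU : Deg (relCodim (Y.res (sdiffC (φ ⁻¹ᵁ G.Y2) (clS G.sY))).scheme
      (X.res (sdiffC G.Y2 (clS G.sX))).scheme) i n i₁ n₁)
    (a : T.gp (Y.res (sdiffC (φ ⁻¹ᵁ G.Y2) (clS G.sY))) M i n) :
    (Q.tot M i₁ n₁ i₂ n₂ h2 h2').hom
        (cl T (fjIdx _ (sepU_containsFj G.SX)) (pu T (restrTo φ G.eqU) hfU a)) =
      (PreTheory.PtPush.famTot t F M i₂ n₂).hom
        ((Q'.tot M i n i₂ n₂ h4 h4').hom (cl T (fjIdx _ (sepU_containsFj G.SY)) a)) := by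
  obtain ⟨x₀, hx₀⟩ := hne
  obtain ⟨y₀, hy₀, -⟩ := G.lift x₀ hx₀
  have hcd := codim_map hpd hφη
  have ht : ∀ y : Y.cdPt 1, φ y.1 = (t y).1 := fun y => (F y).maps_pt
  have htm : ∀ y : G.sY, t y.1 ∈ G.sX := fun y => by
    obtain ⟨x, hx, hxy⟩ := G.map y.1 y.2
    rwa [show t y.1 = x from Subtype.ext ((ht y.1).symm.trans hxy)]
  let Yv : Y.scheme.Opens := φ ⁻¹ᵁ G.Y2
  have hfC : ∀ p ∈ clS G.sY, φ p ∈ clS G.sX := fun p hp => by
    obtain ⟨y, hy, hyp⟩ := mem_clS.mp hp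
    exact mem_clS.mpr ⟨t y, htm ⟨y, hy⟩, ht y ▸ hyp.map φ.continuous⟩
  let DX := sepDec G.SX
  let DY := sepDec G.SY
  let f : (Y.res Yv).scheme ⟶ (X.res G.Y2).scheme := restrTo φ (rfl : Yv = φ ⁻¹ᵁ G.Y2)
  let Zs : Obj V := ⟨pullback f (pi X (clS G.sX) G.Y2),
    IsConstructible.of_isClosedImmersion (pullback.fst f (pi X (clS G.sX) G.Y2))
      (h := inferInstance) (Y.res Yv).mem⟩
  have hk₀ : pi Y (clS G.sY) Yv ≫ f =
      phiMap φ hfC (rfl : Yv = φ ⁻¹ᵁ G.Y2) ≫ pi X (clS G.sX) G.Y2 := (phiMap_pi φ hfC rfl).symm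
  let k : (pc Y (clS G.sY) Yv).scheme ⟶ Zs.scheme := pullback.lift _ _ hk₀
  have hkfst : k ≫ pullback.fst f (pi X (clS G.sX) G.Y2) = pi Y (clS G.sY) Yv :=
    pullback.lift_fst _ _ hk₀
  have hkc : IsClosedImmersion k := by
    have : IsClosedImmersion (k ≫ pullback.fst f (pi X (clS G.sX) G.Y2)) := by
      rw [hkfst]; infer_instance
    exact IsClosedImmersion.of_comp_isClosedImmersion k (pullback.fst f (pi X (clS G.sX) G.Y2))
  have hrange : Set.range (pullback.fst f (pi X (clS G.sX) G.Y2)) =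
      Set.range (pi Y (clS G.sY) Yv) := by
    rw [Scheme.Pullback.range_fst, range_pi, range_pi]
    ext p
    have hiff : p.1 ∈ sdiffC Yv (clS G.sY) ↔ φ p.1 ∈ sdiffC G.Y2 (clS G.sX) :=
      Iff.of_eq (congrArg (fun O : Y.scheme.Opens => p.1 ∈ O) G.eqU)
    have he : G.Y2.ι (f p) = φ p.1 := by
      show (f ≫ G.Y2.ι) p = _
      rw [restrTo_ι]; rfl
    show G.Y2.ι (f p) ∈ clS G.sX ↔ p.1 ∈ clS G.sY
    rw [he]
    refine not_iff_not.mp ⟨fun h => (hiff.mpr ⟨p.2, h⟩).2, fun h => (hiff.mp ⟨p.2, h⟩).2⟩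
  have hks : Surjective k := ⟨fun z => by
    obtain ⟨v, hv⟩ := hrange.subset ⟨z, rfl⟩
    refine ⟨v, (pullback.fst f (pi X (clS G.sX) G.Y2)).isClosedEmbedding.injective ?_⟩
    rw [← hv]
    exact congr($(hkfst) v)⟩
  have hdimZ : WeilCoh.dim Zs.scheme = WeilCoh.dim (pc Y (clS G.sY) Yv).scheme :=
    natDim_eq_of_range_eq (pullback.fst f (pi X (clS G.sX) G.Y2)).isClosedEmbedding.isEmbedding
      (pi Y (clS G.sY) Yv).isClosedEmbedding.isEmbedding hrange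
  let D' : Decomp (Y.res Yv) :=
    ⟨Zs, DY.U, pullback.fst f (pi X (clS G.sX) G.Y2), inferInstance, DY.j,
      DY.range_eq.trans (congrArg compl hrange.symm)⟩
  have hdY : RDeg DY.codim i n i₂ n₂ := rdeg_sep G.SY hy₀ h4 h4'
  have hdX : RDeg DX.codim i₁ n₁ i₂ n₂ := rdeg_sep G.SX hx₀ h2 h2'
  have hcod : D'.codim = DY.codim := by
    show relCodim Zs.scheme (Y.res Yv).scheme =
      relCodim (pc Y (clS G.sY) Yv).scheme (Y.res Yv).scheme
    simp only [relCodim, hdimZ]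
  have hd' : RDeg D'.codim i n i₂ n₂ := by rw [hcod]; exact hdY
  have hd0 : Deg (relCodim DY.Z.scheme D'.Z.scheme) i₂ n₂ i₂ n₂ := by
    show Deg (relCodim (pc Y (clS G.sY) Yv).scheme Zs.scheme) i₂ n₂ i₂ n₂
    simp [Deg, relCodim, hdimZ]
  have hdimC : WeilCoh.dim (pc X (clS G.sX) G.Y2).scheme =
      WeilCoh.dim (pc Y (clS G.sY) Yv).scheme := by
    rw [dim_pc_clS G.SX hx₀, dim_pc_clS G.SY hy₀]
    obtain ⟨x, hx, hxy⟩ := G.map y₀ hy₀
    rw [← dim_pc_clS G.SX hx₀, dim_pc_clS G.SX hx, ← hxy, hpd]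
  have hd1 : Deg (relCodim D'.Z.scheme DX.Z.scheme) i₂ n₂ i₂ n₂ := by
    show Deg (relCodim Zs.scheme (pc X (clS G.sX) G.Y2).scheme) i₂ n₂ i₂ n₂
    simp [Deg, relCodim, hdimZ, hdimC]
  have hd2 : Deg (relCodim DY.Z.scheme DX.Z.scheme) i₂ n₂ i₂ n₂ := by
    show Deg (relCodim (pc Y (clS G.sY) Yv).scheme (pc X (clS G.sX) G.Y2).scheme) i₂ n₂ i₂ n₂
    simp [Deg, relCodim, hdimC]
  let z'' := ru T DY hdY a
  have e1 : pu T k hd0 z'' = ru T D' hd' a := by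
    have := hred (Y.res Yv) D' DY (𝟙 _) k (Category.id_comp _) hkfst M i n i₂ n₂ hd'.1 hd'.2
      hdY.1 hdY.2 hd0.1 hd0.2
    exact (congrArg (fun v => pu T k hd0 (ru T DY hdY v)) (pl_id T a).symm).trans
      congr($(this).hom a)
  have : IsProper (pullback.snd f (pi X (clS G.sX) G.Y2)) := inferInstance
  have e2 : pu T (pullback.snd f (pi X (clS G.sX) G.Y2)) hd1 (ru T D' hd' a) =
      ru T DX hdX (pu T (restrTo φ G.eqU) hfU a) :=
    congr($(T.res_push DX D' f (pullback.snd f (pi X (clS G.sX) G.Y2)) (restrTo φ G.eqU)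
      (IsPullback.of_hasPullback f (pi X (clS G.sX) G.Y2))
      (isPullback_restrTo φ (rfl : Yv = φ ⁻¹ᵁ G.Y2) G.eqU (sdiffC_le _ _) (sdiffC_le _ _))
      M i n i₂ n₂ i₁ n₁ i₂ n₂ hd'.1 hd'.2 hfU.1 hfU.2 hd1.1 hd1.2 hdX.1 hdX.2).hom a)
  have e3 : ru T DX hdX (pu T (restrTo φ G.eqU) hfU a) =
      pu T (phiMap φ hfC (rfl : Yv = φ ⁻¹ᵁ G.Y2)) hd2 z'' := by
    rw [← e2, ← e1]
    exact pu_pu T k _ _ (pullback.lift_snd _ _ hk₀) hd0 hd1 hd2 z''
  -- the maps between the pieces of the points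
  have hfy : ∀ y : G.sY, ∀ p ∈ clPt Y y.1.1, φ p ∈ clPt X (t y.1).1 := fun y p hp =>
    specializes_iff_mem_closure.mp (ht y.1 ▸ (specializes_iff_mem_closure.mpr hp).map φ.continuous)
  have hdy : ∀ y : G.sY,
      Deg (relCodim (pc Y (clPt Y y.1.1) Yv).scheme (pc X (clPt X (t y.1).1) G.Y2).scheme)
        i₂ n₂ i₂ n₂ := fun y => by
    have h1 : WeilCoh.dim (pc Y (clPt Y y.1.1) Yv).scheme = WeilCoh.pdim Y.scheme y.1.1 :=
      dim_pc_clPt (X := Y) (G.SY.mem y.1)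
    have h2 := dim_pc_clPt (X := X) (G.SX.mem (t y.1))
    have h3 := hpd y.1.1
    rw [ht] at h3
    simp only [Deg, relCodim]
    rw [h1, h2, h3]
    omega
  let bY : ∀ y : G.sY, T.gp (pc Y (clPt Y y.1.1) Yv) M i₂ n₂ := fun y => pl T (sepMor G.SY y.2) z''
  let cY : ∀ y : G.sY, T.gp (pc X (clPt X (t y.1).1) G.Y2) M i₂ n₂ := fun y =>
    pu T (phiMap φ (hfy y) (rfl : Yv = φ ⁻¹ᵁ G.Y2)) (hdy y) (bY y)
  have hF : ∀ y : G.sY, ((F y.1).cpt M i₂ n₂).hom (cp T Yv (G.SY.mem y.1) (bY y)) =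
      cp T G.Y2 (G.SX.mem (t y.1)) (cY y) := fun y =>
    congr($((F y.1).cpt_spec M i₂ n₂ (ptW Yv (G.SY.mem y.1)) (ptW G.Y2 (G.SX.mem (t y.1)))
      (phiMap φ (hfy y) (rfl : Yv = φ ⁻¹ᵁ G.Y2))
      (by
        show phiMap φ (hfy y) _ ≫ toX X (clPt X (t y.1).1) G.Y2 = _
        rw [phiMap_toX, Category.assoc])
      (hdy y).1 (hdy y).2).hom (bY y))
  have : Nonempty G.sY := ⟨⟨y₀, hy₀⟩⟩
  have e4 : ru T DX hdX (pu T (restrTo φ G.eqU) hfU a) = ∑ y : G.sY,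
      pu T (sepMor G.SX (htm y)).hom (deg_zero (sepMor G.SX (htm y))) (cY y) := by
    rw [e3, ← (sepMor_isFam G.SY).eq_sum T z'']
    simp only [pu, map_sum]
    refine Finset.sum_congr rfl fun y _ => ?_
    have hd5 : Deg (relCodim (pc Y (clPt Y y.1.1) Yv).scheme (pc X (clS G.sX) G.Y2).scheme)
        i₂ n₂ i₂ n₂ := by
      have := hdy y
      simp only [Deg, relCodim, dim_pc_clPt (X := X) (G.SX.mem (t y.1))] at this ⊢
      rwa [dim_pc_clS G.SX (htm y)]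
    have hcomm : (sepMor G.SY y.2).hom ≫ phiMap φ hfC (rfl : Yv = φ ⁻¹ᵁ G.Y2) =
        phiMap φ (hfy y) rfl ≫ (sepMor G.SX (htm y)).hom := by
      rw [sepMor_hom, sepMor_hom]; exact pcMap_phi hfC (hfy y) _ _ rfl
    have : IsProper ((sepMor G.SY y.2).hom ≫ phiMap φ hfC (rfl : Yv = φ ⁻¹ᵁ G.Y2)) := inferInstance
    exact (pu_pu T (sepMor G.SY y.2).hom (phiMap φ hfC rfl) _ rfl (deg_zero (sepMor G.SY y.2)) hd2 hd5
      (bY y)).trans (pu_pu T (phiMap φ (hfy y) rfl) (sepMor G.SX (htm y)).hom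
      ((sepMor G.SY y.2).hom ≫ phiMap φ hfC rfl) hcomm.symm (hdy y) (deg_zero (sepMor G.SX (htm y))) hd5 (bY y)).symm
  -- compare component by component
  have hY : (Q'.tot M i n i₂ n₂ h4 h4').hom (cl T (fjIdx _ (sepU_containsFj G.SY)) a) =
      ∑ y : G.sY, DirectSum.lof R _ (fun z : Y.cdPt 1 => T.ptGp Y z.1 M i₂ n₂) y.1
        (cp T Yv (G.SY.mem y.1) (bY y)) := by
    refine (sum_lof_self (R := R) _ G.sY fun y hy => ?_).symm.trans (Finset.sum_congr rfl fun y _ => ?_)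
    · by_contra hyS
      exact hy (rdata_zero Q' y (sepU_containsFj G.SY)
        ⟨G.SY.mem y, fun h => hyS (mem_of_mem_clS h)⟩ h4 h4' a)
    · exact congrArg _ (rdata_sep Q' G.SY y.2 h4 h4' hdY a)
  have hfam : ∀ y : G.sY, (PreTheory.PtPush.famTot t F M i₂ n₂).hom
      (DirectSum.lof R _ (fun z : Y.cdPt 1 => T.ptGp Y z.1 M i₂ n₂) y.1
        (cp T Yv (G.SY.mem y.1) (bY y))) =
      DirectSum.lof R _ (fun z : X.cdPt (q + 1) => T.ptGp X z.1 M i₂ n₂) (t y.1)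
        (cp T G.Y2 (G.SX.mem (t y.1)) (cY y)) := fun y =>
    (PreTheory.PtPush.famTot_lof t F M i₂ n₂ y.1 _).trans (congrArg _ (hF y))
  rw [hY, map_sum, Finset.sum_congr rfl fun y _ => hfam y]
  refine DFinsupp.ext fun x => ?_
  rw [Q.tot_apply, DFinsupp.finsetSum_apply]
  by_cases hx : x ∈ G.sX
  · rw [rdata_sep Q G.SX hx h2 h2' hdX, e4]
    simp only [pl, cp, cl, map_sum]
    refine Finset.sum_congr rfl fun y _ => ?_
    by_cases hxy : t y.1 = x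
    · subst hxy
      rw [DirectSum.lof_apply]
      exact congrArg _ (pl_pu_retract T (sepMor G.SX (htm y)) _ (cY y))
    · rw [DirectSum.lof_eq_of, DirectSum.of_eq_of_ne _ _ _ (fun e => hxy e.symm)]
      have := (sepMor_isFam G.SX).pl_pu_ne T (k := ⟨t y.1, htm y⟩) (l := ⟨x, hx⟩)
        (fun e => hxy (congrArg Subtype.val e)) (cY y)
      simp only [pl] at this
      rw [this, map_zero]
  · rw [rdata_zero Q x (sepU_containsFj G.SX)
      ⟨G.SX.mem x, fun h => hx (mem_of_mem_clS h)⟩ h2 h2', Finset.sum_eq_zero fun y _ => ?_]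
    rw [DirectSum.lof_eq_of]
    exact DirectSum.of_eq_of_ne _ _ _ fun e => hx (by subst e; exact htm y)

open Classical in
/-- Residue after push-forward is computed upstairs. -/
theorem resTot_pushCpt
    (hred : ∀ (S : BMCoh.Obj V) (D D'' : BMCoh.Decomp S) (gU : D''.U ⟶ D.U)
      (k : D''.Z.scheme ⟶ D.Z.scheme) [IsClosedImmersion k] [AlgebraicGeometry.Surjective k],
      gU ≫ D.j = D''.j → k ≫ D.i = D''.i →
      ∀ (M : A.Cat) (i n i' n' : ℤ) (hi : i' = i + 1 - 2 * D.codim) (hn : n' = n - D.codim)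
        (hi'' : i' = i + 1 - 2 * D''.codim) (hn'' : n' = n - D''.codim)
        (hk : i' = i' + 2 * BMCoh.relCodim D''.Z.scheme D.Z.scheme)
        (hk' : n' = n' + BMCoh.relCodim D''.Z.scheme D.Z.scheme),
      T.pull gU M i n ≫ T.res D'' M i n i' n' hi'' hn'' ≫ T.push k M i' n' i' n' hk hk' =
        T.res D M i n i' n' hi hn)
    [LocallyQuasiFinite φ]
    (hη : WeilCoh.codim Y.scheme (genericPoint Y.scheme) = 0)
    (P : T.PushData X q) (Q : T.ResData X q) (L : T.PtPush φ (genericPoint Y.scheme) w.1)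
    (P' : T.PushData Y 0) (Q' : T.ResData Y 0) (t : Y.cdPt 1 → X.cdPt (q + 1))
    (F : ∀ y : Y.cdPt 1, T.PtPush φ y.1 (t y).1)
    {i₁ n₁ i₂ n₂ : ℤ} (h1 : i₁ = i + 2 * (q : ℤ)) (h1' : n₁ = n + (q : ℤ))
    (h2 : i₂ = i₁ + 1 - 2 * ((q : ℤ) + 1)) (h2' : n₂ = n₁ - ((q : ℤ) + 1))
    (h3 : i = i + 2 * ((0 : ℕ) : ℤ)) (h3' : n = n + ((0 : ℕ) : ℤ))
    (h4 : i₂ = i + 1 - 2 * (((0 : ℕ) : ℤ) + 1)) (h4' : n₂ = n - (((0 : ℕ) : ℤ) + 1))
    (z : T.ptGp Y (genericPoint Y.scheme) M i n) :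
    (Q.tot M i₁ n₁ i₂ n₂ h2 h2').hom ((P.cpt w M i n i₁ n₁ h1 h1').hom ((L.cpt M i n).hom z)) =
      (PreTheory.PtPush.famTot t F M i₂ n₂).hom
        ((Q'.tot M i n i₂ n₂ h4 h4').hom
          ((P'.cpt ⟨genericPoint Y.scheme, hη⟩ M i n i n h3 h3').hom z)) := by
  have hpd := pdim_eq_of_finite φ
  have hφη := L.maps_pt
  have hcd := codim_map hpd hφη
  obtain ⟨OY, hOY, b₀, -, rfl⟩ := exists_cp T z (Nat.zero_le _)
  obtain ⟨G⟩ := exists_diffData hpd hφη (OY := OY) hOY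
  let U : X.scheme.Opens := sdiffC G.Y2 (clS G.sX)
  let U' : Y.scheme.Opens := sdiffC (φ ⁻¹ᵁ G.Y2) (clS G.sY)
  have hU : ContainsFj X q U := sepU_containsFj G.SX
  have hU' : ContainsFj Y 0 U' := sepU_containsFj G.SY
  have hηU : genericPoint Y.scheme ∈ U' := hU' _ hη.le
  have hwU : w.1 ∈ U := hU _ w.2.le
  let b := pl T (ptMor G.leO hηU) b₀
  have hb : cp T U' hηU b = cp T OY hOY b₀ := cp_pl T G.leO hηU b₀
  rw [← hb]
  have hfw : ∀ p ∈ clPt Y (genericPoint Y.scheme), φ p ∈ clPt X w.1 := fun p hp =>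
    specializes_iff_mem_closure.mp (hφη ▸ (specializes_iff_mem_closure.mpr hp).map φ.continuous)
  have hdimη : WeilCoh.dim (Y.res U').scheme = WeilCoh.pdim X.scheme w.1 := by
    rw [← hφη, hpd, pdim_genericPoint]; exact dim_of_containsFj hU'
  have hdw : Deg (relCodim (pc Y (clPt Y (genericPoint Y.scheme)) U').scheme
      (pc X (clPt X w.1) U).scheme) i n i n := by
    have h1 := dim_pc_clPt (X := Y) hηU
    have h2 := dim_pc_clPt (X := X) hwU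
    have h3 := hpd (genericPoint Y.scheme)
    rw [hφη] at h3
    simp [Deg, relCodim, h1, h2, h3]
  have hL : (L.cpt M i n).hom (cp T U' hηU b) =
      cp T U hwU (pu T (phiMap φ hfw G.eqU) hdw b) :=
    congr($(L.cpt_spec M i n (ptW U' hηU) (ptW U hwU) (phiMap φ hfw G.eqU)
      (by
        show phiMap φ hfw _ ≫ toX X (clPt X w.1) U = _
        rw [phiMap_toX, Category.assoc])
      hdw.1 hdw.2).hom b)
  have hdX : Deg (relCodim (pc X (clPt X w.1) U).scheme (X.res U).scheme) i n i₁ n₁ :=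
    deg_of_codim hwU hU w.2 h1 h1'
  have hdY : Deg (relCodim (pc Y (clPt Y (genericPoint Y.scheme)) U').scheme (Y.res U').scheme)
      i n i n :=
    deg_of_codim hηU hU' hη h3 h3'
  let a := pu T (pi Y (clPt Y (genericPoint Y.scheme)) U') hdY b
  have hfU : Deg (relCodim (Y.res U').scheme (X.res U).scheme) i n i₁ n₁ := by
    have h1 := pdim_add_codim w.1
    have h2 := dim_of_containsFj hU
    have h3 := w.2
    simp only [Deg, relCodim] at hdimη ⊢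
    omega
  have key : pu T (pi X (clPt X w.1) U) hdX (pu T (phiMap φ hfw G.eqU) hdw b) =
      pu T (restrTo φ G.eqU) hfU a := by
    have hd6 : Deg (relCodim (pc Y (clPt Y (genericPoint Y.scheme)) U').scheme (X.res U).scheme)
        i n i₁ n₁ := by
      simp only [Deg, relCodim] at hdw hdX ⊢
      omega
    rw [pu_pu T (phiMap φ hfw G.eqU) (pi X (clPt X w.1) U) _ (phiMap_pi φ hfw G.eqU) hdw hdX hd6,
      pu_pu T (pi Y (clPt Y (genericPoint Y.scheme)) U') (restrTo φ G.eqU) _ rfl hdY hfU hd6]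
  rw [hL, pdata_cp P w U hwU hU h1 h1' hdX, pdata_cp P' ⟨genericPoint Y.scheme, hη⟩ U' hηU hU' h3
    h3' hdY, key]
  by_cases hne : G.sX.Nonempty
  · exact resTot_pushCpt_rep hred hpd hφη G hne Q Q' t F ⟨h1, h1'⟩ h2 h2' h4 h4' hfU a
  · have hX0 : (Q.tot M i₁ n₁ i₂ n₂ h2 h2').hom
        (cl T (fjIdx U hU) (pu T (restrTo φ G.eqU) hfU a)) = 0 := DFinsupp.ext fun x => by
      rw [Q.tot_apply]
      exact rdata_zero Q x hU ⟨G.SX.mem x, fun h => hne ⟨x, mem_of_mem_clS h⟩⟩ h2 h2' _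
    have hY0 : (Q'.tot M i n i₂ n₂ h4 h4').hom (cl T (fjIdx U' hU') a) = 0 :=
      DFinsupp.ext fun y => by
        rw [Q'.tot_apply]
        refine rdata_zero Q' y hU' ⟨G.SY.mem y, fun h => ?_⟩ h4 h4' _
        obtain ⟨x, hx, -⟩ := G.map y (mem_of_mem_clS h)
        exact hne ⟨x, hx⟩
    rw [hX0, hY0, map_zero]

end main

end Groth.Agent.BMLib
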