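import Groth.Prelude.Def_BMCoh3
import Mathlib.Topology.Sober
import Mathlib.Topology.NoetherianSpace

/-!
# Dimension facts for constructible classes
-/

universe u

open AlgebraicGeometry CategoryTheory Topology Order

namespace Groth.Agent.BMLib

open BMCoh

variable {X Y : Scheme.{u}}

/-- `natDim` as the toNat of Krull dimension is monotone along inducing maps. -/
lemma natDim_le_of_isInducing {S T : Type u} [TopologicalSpace S] [TopologicalSpace T] {f : S → T}
    (hf : IsInducing f) (hT : topologicalKrullDim T < ⊤) :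
    WeilCoh.natDim S ≤ WeilCoh.natDim T := by
  have h := hf.topologicalKrullDim_le
  unfold WeilCoh.natDim
  refine ENat.toNat_le_toNat ?_ ?_
  · cases hS : topologicalKrullDim S with
    | bot => simp
    | coe a =>
      cases hT' : topologicalKrullDim T with
      | bot => simp_all
      | coe b => simp_all
  · cases hT' : topologicalKrullDim T with
    | bot => simp
    | coe b => rw [hT'] at hT; simpa using hT.ne

lemma natDim_eq_of_range_eq {S S' T : Type u} [TopologicalSpace S] [TopologicalSpace S']
    [TopologicalSpace T] {f : S → T} {g : S' → T} (hf : IsEmbedding f) (hg : IsEmbedding g)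
    (h : Set.range f = Set.range g) : WeilCoh.natDim S = WeilCoh.natDim S' := by
  let e : S ≃ₜ S' := hf.toHomeomorph.trans ((Homeomorph.setCongr h).trans hg.toHomeomorph.symm)
  unfold WeilCoh.natDim
  rw [IsHomeomorph.topologicalKrullDim_eq _ e.isHomeomorph]

section pdim

attribute [local instance] specializationOrder

lemma topologicalKrullDim_eq_points (T : Type u) [TopologicalSpace T] [QuasiSober T] [T0Space T] :
    topologicalKrullDim T = krullDim T :=
  krullDim_eq_of_orderIso (irreducibleSetEquivPoints (α := T))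

lemma krullDim_points : topologicalKrullDim X = krullDim X := topologicalKrullDim_eq_points X

lemma topologicalKrullDim_closure_singleton (x : X) :
    topologicalKrullDim (closure ({x} : Set X)) = (height x : ℕ∞) := by
  have : QuasiSober (closure ({x} : Set X)) :=
    (isClosed_closure.isClosedEmbedding_subtypeVal).quasiSober
  rw [height_eq_krullDim_Iic, topologicalKrullDim_eq_points]
  refine @krullDim_eq_of_orderIso _ _ (_) (_) ?_
  refine
    { toFun := fun y => ⟨y.1, specializes_iff_mem_closure.mpr y.2⟩
      invFun := fun y => ⟨y.1, specializes_iff_mem_closure.mp y.2⟩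
      left_inv := fun y => rfl
      right_inv := fun y => rfl
      map_rel_iff' := ?_ }
  intro a b
  exact (subtype_specializes_iff (x := b) (y := a)).symm

lemma pdim_eq_height (x : X) : WeilCoh.pdim X x = (height x).toNat := by
  simp [WeilCoh.pdim, WeilCoh.natDim, topologicalKrullDim_closure_singleton]

lemma height_lt_top (hX : topologicalKrullDim X < ⊤) (x : X) : height x < ⊤ := by
  have := (height_le_krullDim x).trans_lt (krullDim_points (X := X) ▸ hX)
  exact WithBot.coe_lt_coe.mp this

lemma natCast_pdim (hX : topologicalKrullDim X < ⊤) (x : X) :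
    (WeilCoh.pdim X x : ℕ∞) = height x := by
  rw [pdim_eq_height, ENat.natCast_toNat (height_lt_top hX x).ne]

lemma pdim_le_of_specializes (hX : topologicalKrullDim X < ⊤) {x y : X} (h : x ⤳ y) :
    WeilCoh.pdim X y ≤ WeilCoh.pdim X x := by
  have : height y ≤ height x := height_mono (h : y ≤ x)
  exact_mod_cast (natCast_pdim hX y) ▸ (natCast_pdim hX x) ▸ this

lemma pdim_lt_of_specializes (hX : topologicalKrullDim X < ⊤) {x y : X} (h : x ⤳ y)
    (hne : x ≠ y) : WeilCoh.pdim X y < WeilCoh.pdim X x := by
  have hlt : y < x := lt_of_le_of_ne (h : y ≤ x) hne.symm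
  have : height y < height x := height_strictMono hlt (height_lt_top hX y)
  exact_mod_cast (natCast_pdim hX y) ▸ (natCast_pdim hX x) ▸ this

lemma pdim_le_dim (hX : topologicalKrullDim X < ⊤) (x : X) :
    WeilCoh.pdim X x ≤ WeilCoh.dim X :=
  by
  exact natDim_le_of_isInducing (IsInducing.subtypeVal (t := closure ({x} : Set X))) hX

lemma exists_pdim_eq_dim [h : Nonempty X] (hX : topologicalKrullDim X < ⊤) :
    ∃ x : X, WeilCoh.pdim X x = WeilCoh.dim X := by
  by_contra hne
  push Not at hne
  have hlt : ∀ x : X, WeilCoh.pdim X x < WeilCoh.dim X := fun x =>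
    lt_of_le_of_ne (pdim_le_dim hX x) (hne x)
  let x₀ := h.some
  have hpos : 0 < WeilCoh.dim X := Nat.zero_lt_of_lt (hlt x₀)
  obtain ⟨m, hm⟩ : ∃ m : ℕ, topologicalKrullDim X = ((m : ℕ∞) : WithBot ℕ∞) := by
    cases hd : topologicalKrullDim X with
    | bot => simp [WeilCoh.dim, WeilCoh.natDim, hd] at hpos
    | coe a =>
      cases a with
      | top => simp [hd] at hX
      | coe m => exact ⟨m, rfl⟩
  have hdim : WeilCoh.dim X = m := by simp [WeilCoh.dim, WeilCoh.natDim, hm]
  rw [krullDim_points, krullDim_eq_iSup_height_of_nonempty, WithBot.coe_inj] at hm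
  have : ∀ x : X, height x ≤ ((m - 1 : ℕ) : ℕ∞) := fun x => by
    rw [← natCast_pdim hX x]; exact_mod_cast Nat.le_pred_of_lt (hdim ▸ hlt x)
  have := hm ▸ iSup_le this
  rw [Nat.cast_le] at this
  omega

lemma exists_specializes_pdim_eq (hX : topologicalKrullDim X < ⊤) (x : X) {n : ℕ}
    (hn : n ≤ WeilCoh.pdim X x) : ∃ y, x ⤳ y ∧ WeilCoh.pdim X y = n := by
  rcases hn.lt_or_eq with hn | rfl
  · obtain ⟨y, hy, hy'⟩ := (coe_lt_height_iff (n := n) (height_lt_top hX x)).mp
      (by rw [← natCast_pdim hX x]; exact_mod_cast hn)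
    exact ⟨y, (hy.le : y ≤ x), by rw [pdim_eq_height, hy']; simp⟩
  · exact ⟨x, specializes_refl x, rfl⟩

end pdim

/-- pdim is preserved by closed immersions. -/
lemma pdim_eq_of_isClosedImmersion (f : X ⟶ Y) [IsClosedImmersion f] (x : X) :
    WeilCoh.pdim Y (f x) = WeilCoh.pdim X x := by
  unfold WeilCoh.pdim
  refine natDim_eq_of_range_eq IsEmbedding.subtypeVal
    (f.isClosedEmbedding.isEmbedding.comp IsEmbedding.subtypeVal) ?_
  rw [Set.range_comp, Subtype.range_coe, Subtype.range_coe, ← Set.image_singleton,
    f.isClosedEmbedding.closure_image_eq]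

section Obj

variable {V : ObjectProperty Scheme.{u}} [IsConstructible V]

lemma fin (X : Obj V) : topologicalKrullDim X.scheme < ⊤ := IsConstructible.finiteDim X.mem

instance (X : Obj V) : IsNoetherian X.scheme := IsConstructible.isNoetherian X.mem

lemma range_ptSubι (X : Obj V) (x : X.scheme) :
    Set.range (X.ptSubι x) = closure ({x} : Set X.scheme) := by
  rw [Scheme.IdealSheafData.range_subschemeι, Scheme.IdealSheafData.coe_support_vanishingIdeal]
  rfl

lemma irreducibleSpace_ptSub (X : Obj V) (x : X.scheme) :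
    IrreducibleSpace (X.ptSub x).scheme := by
  have : IrreducibleSpace (closure ({x} : Set X.scheme)) :=
    Subtype.irreducibleSpace isIrreducible_singleton.closure
  let e : closure ({x} : Set X.scheme) ≃ₜ (X.ptSub x).scheme :=
    ((X.ptSubι x).isClosedEmbedding.isEmbedding.toHomeomorph.trans
      (Homeomorph.setCongr (range_ptSubι X x))).symm
  rw [irreducibleSpace_def]
  show IsIrreducible (Set.univ : Set (X.ptSub x).scheme)
  rw [← e.surjective.range_eq, ← Set.image_univ]
  exact (IrreducibleSpace.isIrreducible_univ _).image e e.continuous.continuousOn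

lemma dim_ptSub (X : Obj V) (x : X.scheme) :
    WeilCoh.dim (X.ptSub x).scheme = WeilCoh.pdim X.scheme x :=
  natDim_eq_of_range_eq (X.ptSubι x).isClosedEmbedding.isEmbedding IsEmbedding.subtypeVal
    (by rw [range_ptSubι, Subtype.range_coe])

lemma dim_ptSub_open (X : Obj V) (x : X.scheme) (U : (X.ptSub x).scheme.Opens)
    (h : (U : Set (X.ptSub x).scheme).Nonempty) :
    WeilCoh.dim (U : Scheme.{u}) = WeilCoh.pdim X.scheme x := by
  rw [IsConstructible.dim_open (X.ptSub x).mem (irreducibleSpace_ptSub X x) U h, dim_ptSub]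

/-- pdim is preserved by open immersions into members. -/
lemma pdim_eq_of_isOpenImmersion (X : Obj V) {W : Scheme.{u}} (f : W ⟶ X.scheme)
    [IsOpenImmersion f] (w : W) : WeilCoh.pdim X.scheme (f w) = WeilCoh.pdim W w := by
  let O : (X.ptSub (f w)).scheme.Opens := (X.ptSubι (f w)) ⁻¹ᵁ f.opensRange
  have hO : (O : Set (X.ptSub (f w)).scheme).Nonempty := by
    have : f w ∈ Set.range (X.ptSubι (f w)) := by
      rw [range_ptSubι]; exact subset_closure rfl
    obtain ⟨p, hp⟩ := this
    exact ⟨p, by show X.ptSubι (f w) p ∈ f.opensRange; rw [hp]; exact ⟨w, rfl⟩⟩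
  rw [← dim_ptSub_open X (f w) O hO]
  refine natDim_eq_of_range_eq (T := X.scheme)
    ((X.ptSubι (f w)).isClosedEmbedding.isEmbedding.comp O.ι.isOpenEmbedding.isEmbedding)
    (f.isOpenEmbedding.isEmbedding.comp IsEmbedding.subtypeVal) ?_
  rw [Set.range_comp, Set.range_comp, Scheme.Opens.range_ι, Subtype.range_coe,
    f.isOpenEmbedding.isInducing.closure_eq_preimage_closure_image, Set.image_singleton,
    Set.image_preimage_eq_inter_range, ← range_ptSubι X (f w)]
  show X.ptSubι (f w) '' ((X.ptSubι (f w)) ⁻¹' Set.range f) = _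
  rw [Set.image_preimage_eq_inter_range, Set.inter_comm]

end Obj

end Groth.Agent.BMLib
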