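import Groth.Agent.BMLib.Cor

/-!
# Finite families of clopen pieces
-/

universe u

noncomputable section

open AlgebraicGeometry CategoryTheory CategoryTheory.Limits Topology TopologicalSpace Opposite

set_option linter.unusedSectionVars false

namespace Groth.Agent.BMLib

open BMCoh

variable {V : ObjectProperty Scheme.{u}} [IsConstructible V]
variable {R : Type u} [CommRing R] {A : Coefs R} (T : PreTheory V R A) {M : A.Cat} {i n : ℤ}

lemma isClosedImmersion_of_range_compl {Z X Y : Obj V} (gX : X ⟶ Z) (gY : Y ⟶ Z)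
    (h : Set.range gX.hom = (Set.range gY.hom)ᶜ) : IsClosedImmersion gY.hom :=
  .of_isPreimmersion _ (isOpen_compl_iff.mp (h ▸ gX.hom.isOpenEmbedding.isOpen_range))

/-- The decomposition of an object into two clopen pieces. -/
abbrev twoDec {Z X Y : Obj V} (gX : X ⟶ Z) (gY : Y ⟶ Z)
    (h : Set.range gX.hom = (Set.range gY.hom)ᶜ) : Decomp Z :=
  ⟨Y, X, gY.hom, isClosedImmersion_of_range_compl gX gY h, gX, h⟩

/-- A class on two clopen pieces that vanishes on both is zero. -/
lemma eq_zero_of_two {Z X Y : Obj V} (gX : X ⟶ Z) (gY : Y ⟶ Z)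
    (h : Set.range gX.hom = (Set.range gY.hom)ᶜ) (a : T.gp Z M i n)
    (hX : pl T gX a = 0) (hY : pl T gY a = 0) : a = 0 := by
  have := isClosedImmersion_of_range_compl gX gY h
  obtain ⟨b, rfl⟩ := (pl_eq_zero_iff T (twoDec gX gY h) (deg_zero gY) a).mp hX
  rw [pl_pu_retract T gY] at hY
  subst hY
  simp [pu]

theorem bijective_two {Z X Y : Obj V} (gX : X ⟶ Z) (gY : Y ⟶ Z)
    (h : Set.range gX.hom = (Set.range gY.hom)ᶜ) :
    Function.Bijective (fun a : T.gp Z M i n => (pl T gX a, pl T gY a)) := by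
  have h' : Set.range gY.hom = (Set.range gX.hom)ᶜ := by rw [h, compl_compl]
  have := isClosedImmersion_of_range_compl gX gY h
  have := isClosedImmersion_of_range_compl gY gX h'
  constructor
  · intro a b hab
    simp only [Prod.mk.injEq, pl] at hab
    refine sub_eq_zero.mp (eq_zero_of_two T gX gY h _ ?_ ?_) <;> simp [pl, map_sub, hab.1, hab.2]
  · rintro ⟨b, c⟩
    refine ⟨pu T gX.hom (deg_zero gX) b + pu T gY.hom (deg_zero gY) c, ?_⟩
    have e1 := pl_pu_self T (twoDec gX gY h) (deg_zero gY) c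
    have e2 := pl_pu_self T (twoDec gY gX h') (deg_zero gX) b
    have e3 := pl_pu_retract T gX (deg_zero gX) b
    have e4 := pl_pu_retract T gY (deg_zero gY) c
    simp only [pl, map_add] at e1 e2 e3 e4 ⊢
    rw [e1, e2, e3, e4, add_zero, zero_add]

lemma mem_range_homOfLE {S : Scheme.{u}} {U U' : S.Opens} (h : U ≤ U') (p : (U' : Scheme.{u})) :
    p ∈ Set.range (S.homOfLE h) ↔ U'.ι p ∈ U := by
  rw [← U'.ι.isOpenEmbedding.injective.mem_set_image (s := Set.range _), ← Set.range_comp,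
    ← TopCat.coe_comp, ← Scheme.Hom.comp_base, Scheme.homOfLE_ι, Scheme.Opens.range_ι]
  rfl

/-- The empty object has no classes. -/
lemma eq_zero_of_isEmpty {Z : Obj V} [IsEmpty Z.scheme] (a : T.gp Z M i n) : a = 0 := by
  have h : Set.range (𝟙 Z : Z ⟶ Z).hom = (Set.range (𝟙 Z : Z ⟶ Z).hom)ᶜ :=
    Set.ext fun p => isEmptyElim p
  have := isClosedImmersion_of_range_compl (𝟙 Z) (𝟙 Z) h
  have e := pl_pu_self T (twoDec (𝟙 Z) (𝟙 Z) h) (deg_zero (𝟙 Z)) a
  exact (pl_pu_retract T (𝟙 Z) (deg_zero (𝟙 Z)) a).symm.trans e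

section Fam

variable {Z : Obj V} {ι : Type*} [Fintype ι] {W : ι → Obj V} (g : ∀ k, W k ⟶ Z)

/-- A finite family of morphisms of objects with disjoint images covering the target. -/
structure IsFam : Prop where
  disj : ∀ k l, k ≠ l → Disjoint (Set.range (g k).hom) (Set.range (g l).hom)
  cover : ∀ z : Z.scheme, ∃ k, z ∈ Set.range (g k).hom

variable {g}

/-- The union of the other pieces. -/
abbrev famCompl (g : ∀ k, W k ⟶ Z) (k : ι) : Z.scheme.Opens :=
  ⟨⋃ l ∈ {l | l ≠ k}, Set.range (g l).hom,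
    isOpen_biUnion fun l _ => (g l).hom.isOpenEmbedding.isOpen_range⟩

lemma IsFam.famCompl_eq (F : IsFam g) (k : ι) :
    (famCompl g k : Set Z.scheme) = (Set.range (g k).hom)ᶜ := by
  ext z
  simp only [Opens.coe_mk, Set.mem_iUnion, Set.mem_ofPred_eq, Set.mem_compl_iff]
  refine ⟨fun ⟨l, hl, hz⟩ h => Set.disjoint_left.mp (F.disj l k hl) hz h, fun h => ?_⟩
  obtain ⟨l, hl⟩ := F.cover z
  exact ⟨l, fun e => h (e ▸ hl), hl⟩

lemma IsFam.isProper (F : IsFam g) (k : ι) : IsProper (g k).hom := by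
  have := IsClosedImmersion.of_isPreimmersion (g k).hom
    (isOpen_compl_iff.mp (F.famCompl_eq k ▸ (famCompl g k).isOpen))
  infer_instance

lemma dim_opensRange (k : ι) :
    WeilCoh.dim ((g k).hom.opensRange : Scheme.{u}) = WeilCoh.dim Z.scheme :=
  (BMCoh.dim_eq_of_iso (g k).hom.isoOpensRange).symm.trans (g k).dim_eq

lemma IsFam.pl_pu_ne (F : IsFam g) {k l : ι} (hkl : k ≠ l) [IsProper (g k).hom]
    (b : T.gp (W k) M i n) : pl T (g l) (pu T (g k).hom (deg_zero (g k)) b) = 0 := by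
  let O := famCompl g l
  have hkO : Set.range (g k).hom ⊆ (O : Set Z.scheme) := fun z hz =>
    Set.mem_biUnion (show k ∈ {m | m ≠ l} from hkl) hz
  let e : (W k).scheme ⟶ O := IsOpenImmersion.lift O.ι (g k).hom (by rwa [Scheme.Opens.range_ι])
  have he : e ≫ O.ι = (g k).hom := IsOpenImmersion.lift_fac _ _ _
  have : IsOpenImmersion e := by
    have : IsOpenImmersion (e ≫ O.ι) := by rw [he]; infer_instance
    exact IsOpenImmersion.of_comp e O.ι
  have hdO : WeilCoh.dim (O : Scheme.{u}) = WeilCoh.dim Z.scheme :=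
    dim_open_eq_of_le Z (U := (g k).hom.opensRange) hkO (dim_opensRange k)
  let oY : Z.res O ⟶ Z := Z.resι O hdO
  have hr : Set.range (g l).hom = (Set.range oY.hom)ᶜ := by
    show _ = (Set.range O.ι)ᶜ
    rw [Scheme.Opens.range_ι, F.famCompl_eq, compl_compl]
  have := isClosedImmersion_of_range_compl (g l) oY hr
  have : IsProper e := by
    have : IsProper (e ≫ oY.hom) := by
      show IsProper (e ≫ O.ι); rw [he]; infer_instance
    exact IsProper.of_comp e oY.hom
  let eO : W k ⟶ Z.res O := ⟨e, inferInstance, (g k).dim_eq.trans hdO.symm⟩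
  rw [← pu_pu T e oY.hom (g k).hom he (deg_zero eO) (deg_zero oY) (deg_zero (g k)) b]
  exact pl_pu_self T (twoDec (g l) oY hr) (deg_zero oY) _

lemma IsFam.eq_zero (F : IsFam g) (a : T.gp Z M i n) (h : ∀ k, pl T (g k) a = 0)
    [Nonempty ι] : a = 0 := by
  classical
  suffices key : ∀ (s : Finset ι), s.Nonempty →
      ∃ hd : WeilCoh.dim (s.sup fun k => (g k).hom.opensRange : Z.scheme.Opens).toScheme =
        WeilCoh.dim Z.scheme, pl T (Z.resι _ hd) a = 0 by
    obtain ⟨hd, hs⟩ := key Finset.univ Finset.univ_nonempty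
    have htop : (Finset.univ.sup fun k => (g k).hom.opensRange : Z.scheme.Opens) = ⊤ := by
      refine top_le_iff.mp fun z _ => ?_
      obtain ⟨k, hk⟩ := F.cover z
      exact Finset.le_sup (f := fun k => (g k).hom.opensRange) (Finset.mem_univ k) hk
    have : IsIso (Z.resι _ hd).hom := by
      show IsIso (Scheme.Opens.ι _); rw [htop]; exact inferInstanceAs (IsIso Z.scheme.topIso.hom)
    exact (pl_bijective_of_isIso T (Z.resι _ hd)).1 (hs.trans (by simp [pl]))
  intro s hs
  have hne : ∀ k, ∃ hd, pl T (Z.resι ((g k).hom.opensRange) hd) a = 0 := by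
    intro k
    refine ⟨dim_opensRange k, ?_⟩
    let e : W k ⟶ Z.res (g k).hom.opensRange :=
      ⟨(g k).hom.isoOpensRange.hom, inferInstance, (g k).dim_eq.trans (dim_opensRange k).symm⟩
    have : IsIso e.hom := inferInstanceAs (IsIso (g k).hom.isoOpensRange.hom)
    refine (pl_bijective_of_isIso T e).1 ?_
    rw [pl_pl T e _ (g k) (Scheme.Hom.isoOpensRange_hom_ι (g k).hom), h k]
    simp [pl]
  induction hs using Finset.Nonempty.cons_induction with
  | singleton k => rw [Finset.sup_singleton]; exact hne k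
  | cons k s hks hs ih =>
    obtain ⟨hdk, hak⟩ := hne k
    obtain ⟨hds, has⟩ := ih
    rw [Finset.sup_cons]
    set U₁ := (g k).hom.opensRange
    set U₂ := s.sup fun k => (g k).hom.opensRange
    have hd : WeilCoh.dim (U₁ ⊔ U₂ : Z.scheme.Opens).toScheme = WeilCoh.dim Z.scheme :=
      dim_open_eq_of_le Z le_sup_left hdk
    refine ⟨hd, eq_zero_of_two T (Z.resLE le_sup_left (hdk.trans hd.symm))
      (Z.resLE le_sup_right (hds.trans hd.symm)) ?_ _ ?_ ?_⟩
    · have hdis : Disjoint (U₁ : Set Z.scheme) U₂ := by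
        rw [Set.disjoint_left]
        intro z hz hz₂
        rw [SetLike.mem_coe, show U₂ = ⨆ l ∈ s, (g l).hom.opensRange from Finset.sup_eq_iSup _ _,
          Opens.mem_iSup] at hz₂
        obtain ⟨l, hl⟩ := hz₂
        rw [Opens.mem_iSup] at hl
        obtain ⟨hls, hl⟩ := hl
        exact Set.disjoint_left.mp (F.disj k l fun e => hks (e ▸ hls)) hz hl
      ext p
      rw [Set.mem_compl_iff, show p ∈ Set.range (Z.resLE (le_sup_left (a := U₁) (b := U₂)) (hdk.trans hd.symm)).hom ↔ (U₁ ⊔ U₂).ι p ∈ U₁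
        from mem_range_homOfLE (le_sup_left (a := U₁) (b := U₂)) p, show p ∈ Set.range (Z.resLE (le_sup_right (a := U₁) (b := U₂)) (hds.trans hd.symm)).hom ↔
        (U₁ ⊔ U₂).ι p ∈ U₂ from mem_range_homOfLE (le_sup_right (a := U₁) (b := U₂)) p]
      exact ⟨fun hp => Set.disjoint_left.mp hdis hp, fun hp => p.2.resolve_right hp⟩
    · rwa [pl_pl T _ _ (Z.resι U₁ hdk) (Scheme.homOfLE_ι Z.scheme (le_sup_left (a := U₁) (b := U₂)))]
    · rwa [pl_pl T _ _ (Z.resι U₂ hds) (Scheme.homOfLE_ι Z.scheme (le_sup_right (a := U₁) (b := U₂)))]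

lemma IsFam.pl_sum (F : IsFam g) [∀ k, IsProper (g k).hom] (b : ∀ k, T.gp (W k) M i n) (l : ι) :
    pl T (g l) (∑ k, pu T (g k).hom (deg_zero (g k)) (b k)) = b l := by
  simp only [pl, map_sum]
  rw [Finset.sum_eq_single l (fun k _ hk => F.pl_pu_ne T hk (b k))
    (fun h => absurd (Finset.mem_univ l) h)]
  exact pl_pu_retract T (g l) _ (b l)

lemma IsFam.eq_sum (F : IsFam g) [∀ k, IsProper (g k).hom] [Nonempty ι] (a : T.gp Z M i n) :
    ∑ k, pu T (g k).hom (deg_zero (g k)) (pl T (g k) a) = a := by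
  refine sub_eq_zero.mp (F.eq_zero T _ fun k => ?_)
  have := F.pl_sum T (fun k => pl T (g k) a) k
  simp only [pl, map_sub] at this ⊢
  rw [this, sub_self]

end Fam

end Groth.Agent.BMLib
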