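import Groth.Agent.BMLib.Point

/-!
# Growing opens point by point
-/

universe u

noncomputable section

open AlgebraicGeometry CategoryTheory CategoryTheory.Limits Topology TopologicalSpace Opposite

set_option linter.unusedSectionVars false

namespace Groth.Agent.BMLib

open BMCoh

variable {V : ObjectProperty Scheme.{u}} [IsConstructible V] {X : Obj V}
variable {R : Type u} [CommRing R] {A : Coefs R} (T : PreTheory V R A) {M : A.Cat}
variable {i n i' n' : ℤ}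

/-- Restrictions to nested opens compose. -/
lemma pl_resLE {U₀ U₁ U₂ : X.scheme.Opens} (h : U₀ ≤ U₁) (h' : U₁ ≤ U₂) (hd : WeilCoh.dim (U₀ : Scheme.{u}) = WeilCoh.dim (U₁ : Scheme.{u}))
    (hd' : WeilCoh.dim (U₁ : Scheme.{u}) = WeilCoh.dim (U₂ : Scheme.{u})) (a : T.gp (X.res U₂) M i n) :
    pl T (X.resLE h hd) (pl T (X.resLE h' hd') a) = pl T (X.resLE (h.trans h') (hd.trans hd')) a :=
  pl_pl T _ _ _ (Scheme.homOfLE_homOfLE X.scheme h h') a

lemma exists_nbd_le {x : X.scheme} {U U₁ : X.scheme.Opens} (hle : U ≤ U₁)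
    (hd : WeilCoh.dim (U : Scheme.{u}) = WeilCoh.dim X.scheme) (hx : x ∉ U) (hx₁ : x ∈ U₁)
    (hmax : ∀ y, y ∉ U → y ⤳ x → y = x) : ∃ Y, Nbd x U Y ∧ Y ≤ U₁ := by
  obtain ⟨Y, N⟩ := exists_nbd hd hx hmax
  exact ⟨_, N.shrink (O := U₁) hx₁, sup_le hle inf_le_right⟩

lemma Nbd.lt {x : X.scheme} {U Y : X.scheme.Opens} (N : Nbd x U Y) : U < Y :=
  lt_of_le_of_ne N.le fun h => N.notMem (h.symm ▸ N.mem)

lemma exists_maximal_sdiff {U U₁ : X.scheme.Opens} (hle : U ≤ U₁) (hne : U ≠ U₁) :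
    ∃ x ∈ U₁, x ∉ U ∧ ∀ y, y ∉ U → y ⤳ x → y = x := by
  have : {p : X.scheme | p ∈ U₁ ∧ p ∉ U}.Nonempty := by
    by_contra h
    refine hne (le_antisymm hle fun p hp => ?_)
    by_contra hpU
    exact h ⟨p, hp, hpU⟩
  obtain ⟨x, hx, hmax⟩ := exists_maximal (X := X) this
  exact ⟨x, hx.1, hx.2, fun y hy h => hmax y ⟨h.mem_open U₁.isOpen hx.1, hy⟩ h⟩

/-- Restriction to an open is surjective when the residue groups outside it vanish. -/
lemma pl_surjective (U₁ U : X.scheme.Opens) (hle : U ≤ U₁)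
    (hU : WeilCoh.dim (U : Scheme.{u}) = WeilCoh.dim X.scheme)
    (hU₁ : WeilCoh.dim (U₁ : Scheme.{u}) = WeilCoh.dim X.scheme)
    (h0 : ∀ x ∈ U₁, x ∉ U → IsZero (T.ptGp X x M
      (i + 1 - 2 * (WeilCoh.codim X.scheme x : ℤ)) (n - (WeilCoh.codim X.scheme x : ℤ)))) :
    Function.Surjective (pl T (X.resLE hle (hU.trans hU₁.symm)) (M := M) (i := i) (n := n)) := by
  induction U using WellFoundedGT.induction with
  | ind U ih =>
    intro a
    by_cases hne : U = U₁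
    · subst hne
      exact ⟨a, (pl_congr T (g := 𝟙 _) (Scheme.homOfLE_rfl _ _) a).trans (pl_id T a)⟩
    obtain ⟨x, hx₁, hx, hmax⟩ := exists_maximal_sdiff hle hne
    obtain ⟨Y, N, hY⟩ := exists_nbd_le hle hU hx hx₁ hmax
    have hdeg : RDeg N.dec.codim i n (i + 1 - 2 * (WeilCoh.codim X.scheme x : ℤ))
        (n - (WeilCoh.codim X.scheme x : ℤ)) := by rw [N.codim_eq]; exact ⟨rfl, rfl⟩
    obtain ⟨Y', N', hle', b, rfl⟩ := exists_extend T N a hdeg
      ((ModuleCat.isZero_iff_subsingleton.mp (h0 x hx₁ hx)).elim _ _)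
    obtain ⟨c, rfl⟩ := ih Y' N'.lt (hle'.trans hY) N'.dimY
      (fun y hy hy' => h0 y hy fun h => hy' (N'.le h)) b
    exact ⟨c, (pl_resLE T N'.le (hle'.trans hY) _ _ c).symm⟩

/-- Restriction to an open is injective when the groups of the points outside it vanish. -/
lemma pl_injective (U₁ U : X.scheme.Opens) (hle : U ≤ U₁)
    (hU : WeilCoh.dim (U : Scheme.{u}) = WeilCoh.dim X.scheme)
    (hU₁ : WeilCoh.dim (U₁ : Scheme.{u}) = WeilCoh.dim X.scheme)
    (h0 : ∀ x ∈ U₁, x ∉ U → IsZero (T.ptGp X x M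
      (i - 2 * (WeilCoh.codim X.scheme x : ℤ)) (n - (WeilCoh.codim X.scheme x : ℤ))))
    (a : T.gp (X.res U₁) M i n) (ha : pl T (X.resLE hle (hU.trans hU₁.symm)) a = 0) : a = 0 := by
  induction U using WellFoundedGT.induction with
  | ind U ih =>
    by_cases hne : U = U₁
    · subst hne
      rwa [pl_congr T (g := 𝟙 _) (Scheme.homOfLE_rfl _ _), pl_id] at ha
    obtain ⟨x, hx₁, hx, hmax⟩ := exists_maximal_sdiff hle hne
    obtain ⟨Y, N, hY⟩ := exists_nbd_le hle hU hx hx₁ hmax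
    obtain ⟨Y', N', hle', hb⟩ := exists_vanish T N
      (pl T (X.resLE hY (N.dimY.trans hU₁.symm)) a)
      ((pl_resLE T N.le hY _ _ a).trans ha)
      ⟨by ring, by ring⟩ (h0 x hx₁ hx)
    refine ih Y' N'.lt (hle'.trans hY) N'.dimY (fun y hy hy' => h0 y hy fun h => hy' (N'.le h)) ?_
    exact (pl_resLE T hle' hY _ _ a).symm.trans hb

/-- A class at the level `j` extends step by step to the level `j + 1`. -/
lemma exists_grow {j : ℕ} (z : T.fjGp X j M i n)
    (hz : ∀ (x : X.scheme) (U Y : X.scheme.Opens) (N : Nbd x U Y) (hU : ContainsFj X j U)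
      (a : T.gp (X.res U) M i n), WeilCoh.codim X.scheme x = j + 1 → cl T (fjIdx U hU) a = z →
      ∀ h : RDeg N.dec.codim i n (i + 1 - 2 * ((j : ℤ) + 1)) (n - ((j : ℤ) + 1)),
        cp T Y N.mem (ru T N.dec h a) = 0) :
    ∃ w : T.fjGp X (j + 1) M i n, ((T.fjRes X (Nat.le_succ j) i n).app M).hom w = z := by
  obtain ⟨⟨U, hU, hd⟩, a, ha⟩ := exists_cl T (fjDir X j) z
  induction U using WellFoundedGT.induction with
  | ind U ih =>
    by_cases hS : ∃ x, WeilCoh.codim X.scheme x = j + 1 ∧ x ∉ U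
    · obtain ⟨x, hxc, hx⟩ := hS
      obtain ⟨Y, N⟩ := exists_nbd hd hx (maximal_of_codim hU hxc.le)
      have hdeg : RDeg N.dec.codim i n (i + 1 - 2 * ((j : ℤ) + 1)) (n - ((j : ℤ) + 1)) := by
        rw [N.codim_eq, hxc]; push_cast; exact ⟨rfl, rfl⟩
      obtain ⟨Y', N', -, b, hb⟩ := exists_extend T N a hdeg (hz x U Y N hU a hxc ha hdeg)
      refine ih Y' N'.lt (containsFj_of_le hU N'.le) N'.dimY b ?_
      rw [← ha, ← hb]
      exact (cl_pl T (U' := ⟨U, hU, hd⟩) (U := ⟨Y', containsFj_of_le hU N'.le, N'.dimY⟩) N'.le b).symm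
    · push Not at hS
      have hU' : ContainsFj X (j + 1) U := fun y hy =>
        (Nat.lt_or_eq_of_le hy).elim (fun h => hU y (Nat.lt_succ_iff.mp h)) (hS y)
      exact ⟨cl T (fjIdx U hU') a, (ocolimMap_cl T _ _ _).trans ha⟩

end Groth.Agent.BMLib
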