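import Groth.Agent.BMLib.Family
import Groth.Agent.BMLib.Data

/-!
# Several points of the same codimension at once
-/

universe u

noncomputable section

open AlgebraicGeometry CategoryTheory CategoryTheory.Limits Topology TopologicalSpace Opposite

set_option linter.unusedSectionVars false

namespace Groth.Agent.BMLib

open BMCoh

variable {V : ObjectProperty Scheme.{u}} [IsConstructible V] {X : Obj V} {c : ℕ}

/-- The union of the closures of finitely many points. -/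
abbrev clS (s : Finset (X.cdPt c)) : Closeds X.scheme :=
  ⟨⋃ x ∈ s, closure ({x.1} : Set X.scheme),
    s.finite_toSet.isClosed_biUnion fun _ _ => isClosed_closure⟩

lemma mem_clS {s : Finset (X.cdPt c)} {p : X.scheme} : p ∈ clS s ↔ ∃ x ∈ s, x.1 ⤳ p := by
  simp [clS, specializes_iff_mem_closure, ← SetLike.mem_coe]

/-- An open containing the points of codimension `≤ c` on which the closures are disjoint. -/
structure Sep (s : Finset (X.cdPt c)) (Y : X.scheme.Opens) : Prop where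
  fj : ContainsFj X c Y
  disj : ∀ x ∈ s, ∀ y ∈ s, x ≠ y → ∀ p ∈ Y, x.1 ⤳ p → ¬ y.1 ⤳ p

variable {s : Finset (X.cdPt c)} {Y Y' : X.scheme.Opens}

lemma Sep.mono (S : Sep s Y) (h : Y' ≤ Y) (h' : ContainsFj X c Y') : Sep s Y' :=
  ⟨h', fun x hx y hy hne p hp => S.disj x hx y hy hne p (h hp)⟩

lemma Sep.mem (S : Sep s Y) (x : X.cdPt c) : x.1 ∈ Y := S.fj x.1 x.2.le

lemma exists_sep (s : Finset (X.cdPt c)) {Y₀ : X.scheme.Opens} (hY₀ : ContainsFj X c Y₀) :
    ∃ Y, Y ≤ Y₀ ∧ Sep s Y ∧ ∀ p ∈ Y₀, p ∉ clS s → p ∈ Y := by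
  classical
  let B : Set X.scheme := ⋃ x ∈ s, ⋃ y ∈ s.erase x,
    closure ({x.1} : Set X.scheme) ∩ closure ({y.1} : Set X.scheme)
  have hB : IsClosed B := s.finite_toSet.isClosed_biUnion fun x _ =>
    (s.erase x).finite_toSet.isClosed_biUnion fun y _ => isClosed_closure.inter isClosed_closure
  have hmemB : ∀ p, p ∈ B ↔ ∃ x ∈ s, ∃ y ∈ s, y ≠ x ∧ x.1 ⤳ p ∧ y.1 ⤳ p := by
    intro p
    simp only [B, Set.mem_iUnion, Set.mem_inter_iff, Finset.mem_erase, exists_prop,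
      ← specializes_iff_mem_closure]
    constructor
    · rintro ⟨x, hx, y, ⟨hne, hy⟩, h⟩; exact ⟨x, hx, y, hy, hne, h⟩
    · rintro ⟨x, hx, y, hy, hne, h⟩; exact ⟨x, hx, y, ⟨hne, hy⟩, h⟩
  refine ⟨⟨(Y₀ : Set X.scheme) ∩ Bᶜ, Y₀.isOpen.inter hB.isOpen_compl⟩, fun p hp => hp.1,
    ⟨fun p hp => ⟨hY₀ p hp, fun hpB => ?_⟩, fun x hx y hy hne p hp h1 h2 => ?_⟩,
    fun p hp hpc => ⟨hp, fun hpB => ?_⟩⟩
  · obtain ⟨x, -, y, -, hne, h1, h2⟩ := (hmemB p).mp hpB
    have e : ∀ z : X.cdPt c, z.1 ⤳ p → z.1 = p := fun z hz => by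
      by_contra hzp
      have := codim_lt_of_specializes hz hzp
      have := z.2
      omega
    exact hne (Subtype.ext ((e y h2).trans (e x h1).symm))
  · exact hp.2 ((hmemB p).mpr ⟨x, hx, y, hy, hne.symm, h1, h2⟩)
  · obtain ⟨x, hx, -, -, -, h1, -⟩ := (hmemB p).mp hpB
    exact hpc (mem_clS.mpr ⟨x, hx, h1⟩)

/-- The open of `Y` away from the other closures. -/
abbrev sepY (s : Finset (X.cdPt c)) (Y : X.scheme.Opens) (x : X.cdPt c) : X.scheme.Opens :=
  ⟨(Y : Set X.scheme) ∩ (⋃ y ∈ {y | y ∈ s ∧ y ≠ x}, closure ({y.1} : Set X.scheme))ᶜ,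
    Y.isOpen.inter
      (((s.finite_toSet.subset fun _ h => h.1).isClosed_biUnion
        fun _ _ => isClosed_closure).isOpen_compl)⟩

lemma sepY_le (x : X.cdPt c) : sepY s Y x ≤ Y := fun _ hp => hp.1

lemma Sep.mem_sepY (S : Sep s Y) {x : X.cdPt c} (hx : x ∈ s) {p : X.scheme} (hp : p ∈ Y)
    (hxp : x.1 ⤳ p) : p ∈ sepY s Y x := by
  refine ⟨hp, ?_⟩
  simp only [Set.mem_compl_iff, Set.mem_iUnion, not_exists]
  exact fun y hy hc => S.disj x hx y hy.1 hy.2.symm p hp hxp (specializes_iff_mem_closure.mpr hc)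

lemma clS_inter_sepY (x : X.cdPt c) :
    (clS s : Set X.scheme) ∩ sepY s Y x ⊆ (clPt X x.1 : Set X.scheme) := by
  rintro p ⟨hp, -, hno⟩
  obtain ⟨y, hy, hyp⟩ := mem_clS.mp hp
  by_cases hyx : y = x
  · exact specializes_iff_mem_closure.mp (hyx ▸ hyp)
  · exact absurd (Set.mem_biUnion (show y ∈ {y | y ∈ s ∧ y ≠ x} from ⟨hy, hyx⟩)
      (specializes_iff_mem_closure.mp hyp)) hno

lemma clPt_le_clS {x : X.cdPt c} (hx : x ∈ s) : clPt X x.1 ≤ clS s := fun _ hp =>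
  mem_clS.mpr ⟨x, hx, specializes_iff_mem_closure.mpr hp⟩

lemma dim_pc_clS (S : Sep s Y) {x : X.cdPt c} (hx : x ∈ s) :
    WeilCoh.dim (pc X (clS s) Y).scheme = WeilCoh.pdim X.scheme x.1 := by
  refine dim_pc_eq (mem_clS.mpr ⟨x, hx, specializes_refl _⟩) (S.mem x) fun p hp _ => ?_
  obtain ⟨y, -, hyp⟩ := mem_clS.mp hp
  have h1 := pdim_le_of_specializes (fin X) hyp
  have h2 := pdim_add_codim x.1
  have h3 := pdim_add_codim y.1
  rw [x.2] at h2; rw [y.2] at h3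
  omega

lemma relCodim_clS (S : Sep s Y) {x : X.cdPt c} (hx : x ∈ s) :
    relCodim (pc X (clS s) Y).scheme (X.res Y).scheme = c := by
  have h2 := pdim_add_codim x.1
  rw [x.2] at h2
  have := dim_pc_clS S hx
  have := dim_of_containsFj S.fj
  simp only [relCodim] at *
  omega

/-- The piece of one closure inside the union. -/
def sepMor (S : Sep s Y) {x : X.cdPt c} (hx : x ∈ s) :
    pc X (clPt X x.1) Y ⟶ pc X (clS s) Y :=
  ⟨pcMap (clPt_le_clS hx) (le_refl Y), by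
    have := isOpenImmersion_pcMap (X := X) (clPt_le_clS hx) (sepY_le (s := s) (Y := Y) x)
      (clS_inter_sepY x)
    have hx' : x.1 ∈ sepY s Y x := S.mem_sepY hx (S.mem x) (specializes_refl _)
    have := isIso_ptMor (X := X) (sepY_le (s := s) (Y := Y) x) hx'
      (fun p hp hc => S.mem_sepY hx hp (specializes_iff_mem_closure.mpr hc))
    have e : pcMap (clPt_le_clS hx) (le_refl Y) =
        inv (ptMor (X := X) (sepY_le (s := s) (Y := Y) x) hx').hom ≫
          pcMap (clPt_le_clS hx) (sepY_le x) := by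
      rw [IsIso.eq_inv_comp, ← cancel_mono (toX X (clS s) Y)]
      show (pcMap (le_refl (clPt X x.1)) (sepY_le (s := s) (Y := Y) x) ≫
        pcMap (clPt_le_clS hx) (le_refl Y)) ≫ _ = _
      rw [Category.assoc, pcMap_toX, pcMap_toX, pcMap_toX]
    rw [e]; infer_instance, (dim_pc_clPt (S.mem x)).trans (dim_pc_clS S hx).symm⟩

@[simp] lemma sepMor_hom (S : Sep s Y) {x : X.cdPt c} (hx : x ∈ s) :
    (sepMor S hx).hom = pcMap (clPt_le_clS hx) (le_refl Y) := rfl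

instance isClosedImmersion_sepMor (S : Sep s Y) {x : X.cdPt c} (hx : x ∈ s) :
    IsClosedImmersion (sepMor S hx).hom := by
  rw [sepMor_hom]; exact isClosedImmersion_pcMap _

lemma sepMor_pi (S : Sep s Y) {x : X.cdPt c} (hx : x ∈ s) :
    (sepMor S hx).hom ≫ pi X (clS s) Y = pi X (clPt X x.1) Y := by
  rw [sepMor_hom, pcMap_pi, Scheme.homOfLE_rfl, Category.comp_id]

lemma sepMor_isFam (S : Sep s Y) : IsFam (fun x : s => sepMor S x.2) where
  disj := by
    intro x y hne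
    rw [Set.disjoint_left]
    rw [sepMor_hom, sepMor_hom, range_pcMap, range_pcMap]
    intro p hp hp'
    exact S.disj x.1 x.2 y.1 y.2 (fun e => hne (Subtype.ext e)) _ hp.2
      (specializes_iff_mem_closure.mpr hp.1) (specializes_iff_mem_closure.mpr hp'.1)
  cover := by
    intro p
    have hp : toX X (clS s) Y p ∈ (clS s : Set X.scheme) ∩ Y :=
      range_toX X (clS s) Y ▸ Set.mem_range_self p
    obtain ⟨x, hx, hxp⟩ := mem_clS.mp hp.1
    refine ⟨⟨x, hx⟩, ?_⟩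
    rw [sepMor_hom, range_pcMap]
    exact ⟨specializes_iff_mem_closure.mp hxp, hp.2⟩

variable {R : Type u} [CommRing R] {A : Coefs R} {T : PreTheory V R A} {M : A.Cat}
variable {i n i' n' : ℤ}

open Classical in
/-- The total push-forward of classes on pieces. -/
lemma ptot_rep (P : T.PushData X c) (S : Sep s Y) (_hne : s.Nonempty)
    (hi : i' = i + 2 * (c : ℤ)) (hn : n' = n + (c : ℤ))
    (hdeg : Deg (relCodim (pc X (clS s) Y).scheme (X.res Y).scheme) i n i' n')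
    (b : ∀ x : s, T.gp (pc X (clPt X x.1.1) Y) M i n) :
    (P.tot M i n i' n' hi hn).hom (∑ x : s, DirectSum.lof R _
        (fun y : X.cdPt c => T.ptGp X y.1 M i n) x.1 (cp T Y (S.mem x.1) (b x))) =
      cl T (fjIdx Y S.fj) (pu T (pi X (clS s) Y) hdeg
        (∑ x : s, pu T (sepMor S x.2).hom (deg_zero (sepMor S x.2)) (b x))) := by
  simp only [pu, cl, map_sum]
  refine Finset.sum_congr rfl fun x _ => ?_
  have hdx := deg_of_codim (S.mem x.1) S.fj x.1.2 hi hn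
  rw [P.tot_lof]
  refine (pdata_cp P x.1 Y (S.mem x.1) S.fj hi hn hdx (b x)).trans (congrArg _ ?_)
  exact (pu_pu T (sepMor S x.2).hom (pi X (clS s) Y) (pi X (clPt X x.1.1) Y) (sepMor_pi S x.2)
    (deg_zero (sepMor S x.2)) hdeg hdx (b x)).symm

lemma pl_sepMor_pcMor (S : Sep s Y) (h : Y' ≤ Y) (hY' : ContainsFj X c Y') {x : X.cdPt c}
    (hx : x ∈ s) (hd : WeilCoh.dim (pc X (clS s) Y').scheme = WeilCoh.dim (pc X (clS s) Y).scheme)
    (z : T.gp (pc X (clS s) Y) M i n) :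
    pl T (sepMor (S.mono h hY') hx) (pl T (pcMor (le_refl _) h (fun _ hp => hp.1) hd) z) =
      pl T (ptMor h ((S.mono h hY').mem x)) (pl T (sepMor S hx) z) := by
  rw [← pl_comp, ← pl_comp]
  refine pl_congr T ?_ z
  simp only [comp_hom, sepMor_hom, pcMor, ptMor]
  rw [← cancel_mono (toX X (clS s) Y)]
  simp only [Category.assoc, pcMap_toX]

lemma sum_lof_self {κ : Type u} [DecidableEq κ] {β : κ → Type u} [∀ k, AddCommGroup (β k)] [∀ k, Module R (β k)]
    (ξ : DirectSum κ β) (t : Finset κ) (h : ∀ k, ξ k ≠ 0 → k ∈ t) :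
    ∑ k : t, DirectSum.lof R κ β k.1 (ξ k.1) = ξ := by
  refine DFinsupp.ext fun y => ?_
  rw [DFinsupp.finsetSum_apply]
  by_cases hy : y ∈ t
  · rw [Finset.sum_eq_single ⟨y, hy⟩ (fun k _ hk => ?_) (fun h' => absurd (Finset.mem_univ _) h')]
    · exact DirectSum.lof_apply R y _
    · rw [DirectSum.lof_eq_of]
      exact DirectSum.of_eq_of_ne _ _ _ fun e => hk (Subtype.ext e.symm)
  · rw [Finset.sum_eq_zero fun k _ => ?_]
    · exact (not_not.mp fun h' => hy (h y h')).symm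
    · rw [DirectSum.lof_eq_of]
      exact DirectSum.of_eq_of_ne _ _ _ fun e => hy (e.symm ▸ k.2)

section res

variable {j : ℕ} {s : Finset (X.cdPt (j + 1))} {Y : X.scheme.Opens}

lemma sepU_containsFj (S : Sep s Y) : ContainsFj X j (sdiffC Y (clS s)) := fun p hp =>
  ⟨S.fj p (hp.trans (Nat.le_succ j)), fun hc => by
    obtain ⟨x, -, hxp⟩ := mem_clS.mp hc
    have := codim_le_of_specializes hxp
    rw [x.2] at this
    omega⟩

/-- The decomposition of a separating open. -/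
abbrev sepDec (S : Sep s Y) : Decomp (X.res Y) :=
  dec X (clS s) (sdiffC_le Y (clS s))
    (fun _ hp => ⟨fun h => h.2, fun h => ⟨hp, h⟩⟩)
    ((dim_of_containsFj (sepU_containsFj S)).trans (dim_of_containsFj S.fj).symm)

/-- The components of the residue. -/
lemma rdata_sep (Q : T.ResData X j) (S : Sep s Y) {x : X.cdPt (j + 1)} (hx : x ∈ s)
    (hi : i' = i + 1 - 2 * ((j : ℤ) + 1)) (hn : n' = n - ((j : ℤ) + 1))
    (hdeg : RDeg (sepDec S).codim i n i' n') (a : T.gp (X.res (sdiffC Y (clS s))) M i n) :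
    (Q.cpt x M i n i' n' hi hn).hom (cl T (fjIdx _ (sepU_containsFj S)) a) =
      cp T Y (S.mem x) (pl T (sepMor S hx) (ru T (sepDec S) hdeg a)) := by
  have hx' : x.1 ∈ sepY s Y x := S.mem_sepY hx (S.mem x) (specializes_refl _)
  have hle : sdiffC Y (clS s) ≤ sepY s Y x := fun p hp => ⟨hp.1, fun h => by
    simp only [Set.mem_iUnion] at h
    obtain ⟨y, hy, hyp⟩ := h
    exact hp.2 (clPt_le_clS hy.1 hyp)⟩
  have N : Nbd x.1 (sdiffC Y (clS s)) (sepY s Y x) :=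
    { le := hle
      notMem := fun h => h.2 (clPt_le_clS hx (subset_closure rfl))
      mem := hx'
      sub := fun p hp hpU => specializes_iff_mem_closure.mpr
        (clS_inter_sepY x ⟨not_not.mp fun hc => hpU ⟨hp.1, hc⟩, hp⟩)
      dim := dim_of_containsFj (sepU_containsFj S) }
  have hdN := rdeg_of_codim N x.2 hi hn
  rw [rdata_cl Q x N (sepU_containsFj S) hi hn hdN, ← cp_pl T (sepY_le x) hx']
  let gZ : N.dec.Z ⟶ (sepDec S).Z :=
    pcMor (clPt_le_clS hx) (sepY_le x) (clS_inter_sepY x)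
      ((dim_pc_clPt hx').trans (dim_pc_clS S hx).symm)
  have key := pl_ru T (sepDec S) N.dec
    (X.resLE (sepY_le x) (N.dimY.trans (dim_of_containsFj S.fj).symm)) gZ (𝟙 _)
    (pcMap_pi (clPt_le_clS hx) (sepY_le x))
    (Hom.ext ((Category.id_comp _).trans
      (Scheme.homOfLE_homOfLE X.scheme hle (sepY_le x)).symm)) hdeg hdN a
  rw [pl_id] at key
  rw [← key, ← pl_comp]
  refine congrArg _ (pl_congr T ?_ _)
  simp only [comp_hom, sepMor_hom, gZ, pcMor, ptMor]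
  rw [← cancel_mono (toX X (clS s) Y)]
  simp only [Category.assoc, pcMap_toX]

lemma rdeg_sep (S : Sep s Y) {x : X.cdPt (j + 1)} (hx : x ∈ s)
    (hi : i' = i + 1 - 2 * ((j : ℤ) + 1)) (hn : n' = n - ((j : ℤ) + 1)) :
    RDeg (sepDec S).codim i n i' n' := by
  rw [show (sepDec S).codim = _ from relCodim_clS S hx]; push_cast; exact ⟨hi, hn⟩

set_option maxHeartbeats 800000 in
open Classical in
/-- A class without push-forward is a residue. -/
lemma resTot_of_pushTot_eq_zero (Q : T.ResData X j) (P : T.PushData X (j + 1)) {k : ℤ}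
    (hk : k = i + 1) (hi : i' = i + 1 - 2 * ((j : ℤ) + 1)) (hn : n' = n - ((j : ℤ) + 1))
    (hi2 : k = i' + 2 * ((j + 1 : ℕ) : ℤ)) (hn2 : n = n' + ((j + 1 : ℕ) : ℤ))
    (ξ : T.ptSum X (j + 1) M i' n') (hξ : (P.tot M i' n' k n hi2 hn2).hom ξ = 0) :
    ξ ∈ Set.range (Q.tot M i n i' n' hi hn).hom := by
  have hsum : ∑ x : ξ.support, DirectSum.lof R _ (fun y : X.cdPt (j + 1) => T.ptGp X y.1 M i' n')
      x.1 (ξ x.1) = ξ := sum_lof_self (R := R) ξ _ fun x hx => DFinsupp.mem_support_iff.mpr hx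
  by_cases hne : ξ.support.Nonempty
  swap
  · refine ⟨0, ?_⟩
    rw [map_zero]
    refine DFinsupp.ext fun x => ?_
    rw [DFinsupp.zero_apply, eq_comm, ← DFinsupp.notMem_support_iff,
      Finset.not_nonempty_iff_eq_empty.mp hne]
    simp
  choose Yx hxY b hY hb using fun x : ξ.support => exists_cp T (ξ x.1) x.1.2.ge
  obtain ⟨Y₁, -, S₁, -⟩ := exists_sep ξ.support (Y₀ := ⟨⋂ x : ξ.support, (Yx x : Set X.scheme),
    isOpen_iInter_of_finite fun x => (Yx x).isOpen⟩)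
    (fun p hp => Set.mem_iInter.mpr fun x => hY x p hp)
  let Y₂ : X.scheme.Opens := Y₁ ⊓ ⟨⋂ x : ξ.support, (Yx x : Set X.scheme),
    isOpen_iInter_of_finite fun x => (Yx x).isOpen⟩
  have hle : ∀ x : ξ.support, Y₂ ≤ Yx x := fun x p hp => Set.mem_iInter.mp hp.2 x
  have S : Sep ξ.support Y₂ := S₁.mono inf_le_left
    (fun p hp => ⟨S₁.fj p hp, Set.mem_iInter.mpr fun x => hY x p hp⟩)
  obtain ⟨x₀, hx₀⟩ := hne
  have hdeg : Deg (relCodim (pc X (clS ξ.support) Y₂).scheme (X.res Y₂).scheme) i' n' k n := by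
    rw [relCodim_clS S hx₀]; exact ⟨hi2, hn2⟩
  let b' : ∀ x : ξ.support, T.gp (pc X (clPt X x.1.1) Y₂) M i' n' :=
    fun x => pl T (ptMor (hle x) (S.mem x.1)) (b x)
  have hb' : ∀ x : ξ.support, cp T Y₂ (S.mem x.1) (b' x) = ξ x.1 := fun x => by
    simp only [b']
    rw [cp_pl T (hle x) (S.mem x.1) (b x)]
    exact hb x
  have hrep := ptot_rep P S ⟨x₀, hx₀⟩ hi2 hn2 hdeg b'
  simp only [hb'] at hrep
  rw [hsum, hξ] at hrep
  obtain ⟨⟨Y₃, hY₃, hd₃⟩, hle₃, h0⟩ :=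
    (cl_eq_zero_iff T (fjDir X (j + 1)) (U := fjIdx Y₂ S.fj) _).mp hrep.symm
  have S₃ := S.mono hle₃ hY₃
  let z := ∑ x : ξ.support, pu T (sepMor S x.2).hom (deg_zero (sepMor S x.2)) (b' x)
  have hdC : WeilCoh.dim (pc X (clS ξ.support) Y₃).scheme =
      WeilCoh.dim (pc X (clS ξ.support) Y₂).scheme :=
    (dim_pc_clS S₃ hx₀).trans (dim_pc_clS S hx₀).symm
  let z₃ := pl T (pcMor (le_refl _) hle₃ (fun _ hp => hp.1) hdC) z
  have hdeg₃ : Deg (relCodim (pc X (clS ξ.support) Y₃).scheme (X.res Y₃).scheme) i' n' k n := by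
    rw [relCodim_clS S₃ hx₀]; exact ⟨hi2, hn2⟩
  have h0' : pu T (sepDec S₃).i hdeg₃ z₃ = 0 := by
    rw [← h0]
    exact (pl_pu T (pi X (clS ξ.support) Y₂) (pi X (clS ξ.support) Y₃) _ _
      (isPullback_pcMap (le_refl _) hle₃ fun _ hp => hp.1) hdeg hdeg₃ z).symm
  obtain ⟨a, ha⟩ := (pu_eq_zero_iff T (sepDec S₃) hk (rdeg_sep S₃ hx₀ hi hn) hdeg₃ z₃).mp h0'
  refine ⟨cl T (fjIdx _ (sepU_containsFj S₃)) a, DFinsupp.ext fun x => ?_⟩
  rw [Q.tot_apply]
  by_cases hx : x ∈ ξ.support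
  · rw [rdata_sep Q S₃ hx hi hn (rdeg_sep S₃ hx₀ hi hn) a, ha,
      pl_sepMor_pcMor S hle₃ hY₃ hx hdC z,
      (sepMor_isFam S).pl_sum T b' ⟨x, hx⟩, cp_pl T hle₃]
    exact hb' ⟨x, hx⟩
  · rw [rdata_zero Q x (sepU_containsFj S₃) ⟨S₃.mem x, fun hc => ?_⟩ hi hn a]
    · exact (DFinsupp.notMem_support_iff.mp hx).symm
    obtain ⟨y, hy, hyx⟩ := mem_clS.mp hc
    have : y = x := Subtype.ext (by
      by_contra hne
      have := codim_lt_of_specializes hyx hne
      rw [x.2, y.2] at this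
      omega)
    exact hx (this ▸ hy)

open Classical in
/-- Residues push forward to zero. -/
lemma pushTot_resTot (Q : T.ResData X j) (P : T.PushData X (j + 1)) {k : ℤ}
    (hk : k = i + 1) (hi : i' = i + 1 - 2 * ((j : ℤ) + 1)) (hn : n' = n - ((j : ℤ) + 1))
    (hi2 : k = i' + 2 * ((j + 1 : ℕ) : ℤ)) (hn2 : n = n' + ((j + 1 : ℕ) : ℤ))
    (w : T.fjGp X j M i n) :
    (P.tot M i' n' k n hi2 hn2).hom ((Q.tot M i n i' n' hi hn).hom w) = 0 := by
  obtain ⟨⟨U, hU, hd⟩, a, rfl⟩ := exists_cl T (fjDir X j) w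
  let s : Finset (X.cdPt (j + 1)) := (Set.Finite.preimage Subtype.val_injective.injOn
    (finite_maximal U)).toFinset
  have hs : ∀ x : X.cdPt (j + 1), x.1 ∉ U → x ∈ s := fun x hx =>
    (Set.Finite.mem_toFinset _).mpr ⟨hx, maximal_of_codim hU x.2.le⟩
  have hsU : ∀ x ∈ s, x.1 ∉ U := fun x hx => ((Set.Finite.mem_toFinset _).mp hx).1
  have hQ0 : ∀ x : X.cdPt (j + 1), x ∉ s →
      (Q.cpt x M i n i' n' hi hn).hom (cl T ⟨U, hU, hd⟩ a) = 0 := fun x hx =>
    rdata_zero Q x hU (not_not.mp fun h => hx (hs x h)) hi hn a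
  have hsum : (Q.tot M i n i' n' hi hn).hom (cl T ⟨U, hU, hd⟩ a) =
      ∑ x : s, DirectSum.lof R _ (fun y : X.cdPt (j + 1) => T.ptGp X y.1 M i' n') x.1
        ((Q.cpt x.1 M i n i' n' hi hn).hom (cl T ⟨U, hU, hd⟩ a)) := by
    refine ((sum_lof_self (R := R) ((Q.tot M i n i' n' hi hn).hom (cl T ⟨U, hU, hd⟩ a)) s fun x hx => ?_).symm)
    by_contra hxs
    exact hx (hQ0 x hxs)
  by_cases hne : s.Nonempty
  swap
  · rw [hsum, Finset.sum_eq_zero fun x _ => (hne ⟨x.1, x.2⟩).elim, map_zero]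
  obtain ⟨x₀, hx₀⟩ := hne
  choose O hxO hO using fun x : s =>
    exists_open_sub (hsU x.1 x.2) (maximal_of_codim hU x.1.2.le)
  have hY₀ : ContainsFj X (j + 1) (U ⊔ ⨆ x : s, O x) := fun p hp => by
    by_cases hpU : p ∈ U
    · exact Or.inl hpU
    · have hpc : WeilCoh.codim X.scheme p = j + 1 := by
        by_contra hne'
        exact hpU (hU p (by omega))
      exact Or.inr (Opens.mem_iSup.mpr ⟨⟨⟨p, hpc⟩, hs _ hpU⟩, hxO _⟩)
  obtain ⟨Y, hYle, S, hYmem⟩ := exists_sep s hY₀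
  have hUC : ∀ p ∈ U, p ∉ clS s := fun p hp hc => by
    obtain ⟨x, hx, hxp⟩ := mem_clS.mp hc
    exact hsU x hx (hxp.mem_open U.isOpen hp)
  have heq : sdiffC Y (clS s) = U := by
    ext p
    refine ⟨fun ⟨hp, hpc⟩ => ?_, fun hp => ⟨hYmem p (Or.inl hp) (hUC p hp), hUC p hp⟩⟩
    rcases hYle hp with hp' | hp'
    · exact hp'
    · obtain ⟨x, hx⟩ := Opens.mem_iSup.mp hp'
      by_contra hpU
      exact hpc (mem_clS.mpr ⟨x.1, x.2, hO x p hx hpU⟩)
  have hdeg := rdeg_sep S hx₀ hi hn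
  have hdeg2 : Deg (relCodim (pc X (clS s) Y).scheme (X.res Y).scheme) i' n' k n := by
    rw [relCodim_clS S hx₀]; exact ⟨hi2, hn2⟩
  have : Nonempty s := ⟨⟨x₀, hx₀⟩⟩
  have key : ∀ a' : T.gp (X.res (sdiffC Y (clS s))) M i n,
      (P.tot M i' n' k n hi2 hn2).hom (∑ x : s, DirectSum.lof R _
        (fun y : X.cdPt (j + 1) => T.ptGp X y.1 M i' n') x.1
        ((Q.cpt x.1 M i n i' n' hi hn).hom (cl T (fjIdx _ (sepU_containsFj S)) a'))) = 0 := by
    intro a'
    simp only [rdata_sep Q S (Finset.coe_mem _) hi hn hdeg]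
    rw [ptot_rep P S ⟨x₀, hx₀⟩ hi2 hn2 hdeg2
      (fun x => pl T (sepMor S x.2) (ru T (sepDec S) hdeg a')),
      (sepMor_isFam S).eq_sum T, show pu T (pi X (clS s) Y) hdeg2 (ru T (sepDec S) hdeg a') = 0
        from pu_ru T (sepDec S) hk hdeg hdeg2 a']
    simp [cl]
  rw [hsum, ← cl_pl T (U := ⟨U, hU, hd⟩) (U' := fjIdx _ (sepU_containsFj S)) heq.le a]
  exact key _

/-- The Gysin sequence at the points of codimension `j + 1`. -/
theorem exact_resTot_pushTot (Q : T.ResData X j) (P : T.PushData X (j + 1)) {k : ℤ}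
    (hk : k = i + 1) (hi : i' = i + 1 - 2 * ((j : ℤ) + 1)) (hn : n' = n - ((j : ℤ) + 1))
    (hi2 : k = i' + 2 * ((j + 1 : ℕ) : ℤ)) (hn2 : n = n' + ((j + 1 : ℕ) : ℤ)) :
    Function.Exact (Q.tot M i n i' n' hi hn).hom (P.tot M i' n' k n hi2 hn2).hom := fun ξ =>
  ⟨resTot_of_pushTot_eq_zero Q P hk hi hn hi2 hn2 ξ, by
    rintro ⟨w, rfl⟩; exact pushTot_resTot Q P hk hi hn hi2 hn2 w⟩

end res

section zero

variable {s : Finset (X.cdPt 0)}

set_option maxHeartbeats 800000 in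
open Classical in
/-- Classes at level zero are sums over the top points. -/
theorem pushTot_bijective_zero [IsReduced X.scheme] (P : T.PushData X 0)
    (hi : i' = i + 2 * ((0 : ℕ) : ℤ)) (hn : n' = n + ((0 : ℕ) : ℤ)) :
    Function.Bijective (P.tot M i n i' n' hi hn).hom := by
  obtain rfl : i = i' := by omega
  obtain rfl : n = n' := by omega
  have hmax : ∀ (x : X.cdPt 0) (y : X.scheme), y ∉ (⊥ : X.scheme.Opens) → y ⤳ x.1 → y = x.1 := by
    intro x y _ h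
    by_contra hne
    have := codim_lt_of_specializes h hne
    rw [x.2] at this
    omega
  let s : Finset (X.cdPt 0) := (Set.Finite.preimage Subtype.val_injective.injOn
    (finite_maximal (⊥ : X.scheme.Opens))).toFinset
  have hs : ∀ x : X.cdPt 0, x ∈ s := fun x =>
    (Set.Finite.mem_toFinset _).mpr ⟨id, hmax x⟩
  choose O hxO hO using fun x : s =>
    exists_open_sub (U := (⊥ : X.scheme.Opens)) (x := x.1.1) id (hmax x.1)
  have hY₀ : ContainsFj X 0 (⨆ x : s, O x) := fun p hp =>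
    Opens.mem_iSup.mpr ⟨⟨⟨p, Nat.le_zero.mp hp⟩, hs _⟩, hxO _⟩
  obtain ⟨Y₀, hY₀le, S₀, -⟩ := exists_sep s hY₀
  let g : ∀ (Y : X.scheme.Opens), Y ≤ Y₀ → ContainsFj X 0 Y → ∀ x : s,
      (pc X (clPt X x.1.1) Y ⟶ X.res Y) := fun Y hY hfj x =>
    ⟨pi X (clPt X x.1.1) Y, isOpenImmersion_pi (sepY s Y x.1) (by
      ext p
      refine ⟨fun hp => ?_, fun hp => (S₀.mono hY hfj).mem_sepY x.2 hp.2
        (specializes_iff_mem_closure.mpr hp.1)⟩
      have hpY : p ∈ Y := hp.1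
      obtain ⟨y, hy⟩ := Opens.mem_iSup.mp (hY₀le (hY hpY))
      exact ⟨clS_inter_sepY x.1 ⟨mem_clS.mpr ⟨y.1, y.2, hO y p hy id⟩, hp⟩, hpY⟩), by
      have h1 := dim_pc_clPt (X := X) ((S₀.mono hY hfj).mem x.1)
      have h2 := dim_of_containsFj hfj
      have h3 := pdim_add_codim x.1.1
      rw [x.1.2] at h3
      simp only at h1 ⊢
      omega⟩
  have hfam : ∀ Y hY hfj, IsFam (g Y hY hfj) := fun Y hY hfj =>
    { disj := by
        intro x y hne
        rw [Set.disjoint_left]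
        show ∀ ⦃a⦄, a ∈ Set.range (pi X _ Y) → a ∉ Set.range (pi X _ Y)
        rw [range_pi, range_pi]
        intro p hp hp'
        exact (S₀.mono hY hfj).disj x.1 x.2 y.1 y.2 (fun e => hne (Subtype.ext e)) _ p.2
          (specializes_iff_mem_closure.mpr hp) (specializes_iff_mem_closure.mpr hp')
      cover := by
        intro p
        obtain ⟨y, hy⟩ := Opens.mem_iSup.mp (hY₀le (hY p.2))
        refine ⟨y, ?_⟩
        show p ∈ Set.range (pi X _ Y)
        rw [range_pi]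
        exact specializes_iff_mem_closure.mp (hO y _ hy id) }
  have : ∀ Y hY hfj x, IsProper (g Y hY hfj x).hom := fun Y hY hfj x => by
    show IsProper (pi X _ Y); infer_instance
  have hrep : ∀ Y (hY : Y ≤ Y₀) (hfj : ContainsFj X 0 Y)
      (b : ∀ x : s, T.gp (pc X (clPt X x.1.1) Y) M i n),
      (P.tot M i n i n hi hn).hom (∑ x : s, DirectSum.lof R _
        (fun y : X.cdPt 0 => T.ptGp X y.1 M i n) x.1 (cp T Y ((S₀.mono hY hfj).mem x.1) (b x))) =
      cl T (fjIdx Y hfj) (∑ x : s, pu T (g Y hY hfj x).hom (deg_zero (g Y hY hfj x)) (b x)) := by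
    intro Y hY hfj b
    simp only [cl, map_sum]
    refine Finset.sum_congr rfl fun x _ => ?_
    rw [P.tot_lof]
    exact pdata_cp P x.1 Y _ hfj hi hn _ (b x)
  refine ⟨fun ξ₁ ξ₂ h => sub_eq_zero.mp ?_, fun z => ?_⟩
  · have hξ : (P.tot M i n i n hi hn).hom (ξ₁ - ξ₂) = 0 := by rw [map_sub, h, sub_self]
    generalize ξ₁ - ξ₂ = ξ at hξ ⊢
    choose Yx hxY b hY hb using fun x : s => exists_cp T (ξ x.1) x.1.2.ge
    let Y : X.scheme.Opens := Y₀ ⊓ ⟨⋂ x : s, (Yx x : Set X.scheme),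
      isOpen_iInter_of_finite fun x => (Yx x).isOpen⟩
    have hle : ∀ x : s, Y ≤ Yx x := fun x p hp => Set.mem_iInter.mp hp.2 x
    have hfj : ContainsFj X 0 Y := fun p hp => ⟨S₀.fj p hp, Set.mem_iInter.mpr fun x => hY x p hp⟩
    let b' : ∀ x : s, T.gp (pc X (clPt X x.1.1) Y) M i n :=
      fun x => pl T (ptMor (hle x) ((S₀.mono inf_le_left hfj).mem x.1)) (b x)
    have hb' : ∀ x : s, cp T Y ((S₀.mono inf_le_left hfj).mem x.1) (b' x) = ξ x.1 := fun x => by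
      simp only [b']
      rw [cp_pl T (hle x) ((S₀.mono inf_le_left hfj).mem x.1) (b x)]
      exact hb x
    have hsum : ∑ x : s, DirectSum.lof R _ (fun y : X.cdPt 0 => T.ptGp X y.1 M i n)
        x.1 (ξ x.1) = ξ := sum_lof_self (R := R) ξ s fun x _ => hs x
    have hr := hrep Y inf_le_left hfj b'
    simp only [hb'] at hr
    rw [hsum, hξ] at hr
    obtain ⟨⟨Y', hY', hd'⟩, hle', h0⟩ :=
      (cl_eq_zero_iff T (fjDir X 0) (U := fjIdx Y hfj) _).mp hr.symm
    refine DFinsupp.ext fun y => ?_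
    have := (hfam Y inf_le_left hfj).pl_sum T b' ⟨y, hs y⟩
    rw [DFinsupp.zero_apply, ← hb' ⟨y, hs y⟩,
      ← cp_pl T hle' (hY' y.1 y.2.le), ← this,
      ← pl_comp]
    have e : ptMor (X := X) hle' (hY' y.1 y.2.le) ≫ g Y inf_le_left hfj ⟨y, hs y⟩ =
        g Y' (hle'.trans inf_le_left) hY' ⟨y, hs y⟩ ≫
          X.resLE hle' ((dim_of_containsFj hY').trans (dim_of_containsFj hfj).symm) :=
      Hom.ext (pcMap_pi (le_refl (clPt X y.1)) hle')
    rw [e, pl_comp, h0]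
    simp [pl, cp, cl]
  · obtain ⟨⟨U, hU, hd⟩, a, rfl⟩ := exists_cl T (fjDir X 0) z
    let Y : X.scheme.Opens := Y₀ ⊓ U
    have hfj : ContainsFj X 0 Y := containsFj_inf S₀.fj hU
    let a' := pl T (X.resLE (inf_le_right : Y ≤ U) ((dim_of_containsFj hfj).trans hd.symm)) a
    refine ⟨_, (hrep Y inf_le_left hfj
      (fun x => pl T (g Y inf_le_left hfj x) a')).trans ?_⟩
    rw [← cl_pl T (U := ⟨U, hU, hd⟩) (U' := fjIdx Y hfj) inf_le_right a]
    congr 1
    by_cases hne : Nonempty s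
    · exact (hfam Y inf_le_left hfj).eq_sum T a'
    · have : IsEmpty (X.res Y).scheme := ⟨fun p => by
        obtain ⟨y, -⟩ := Opens.mem_iSup.mp (hY₀le p.2.1)
        exact hne ⟨y⟩⟩
      exact (eq_zero_of_isEmpty T _).trans (eq_zero_of_isEmpty T _).symm

end zero

end Groth.Agent.BMLib
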