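import Groth.Agent.BMLib.Piece
import Mathlib.CategoryTheory.Limits.ConcreteCategory.Basic
import Mathlib.Algebra.Category.ModuleCat.FilteredColimits

/-!
# Elementwise calculus in a pre-theory
-/

universe u

noncomputable section

open AlgebraicGeometry CategoryTheory CategoryTheory.Limits Topology Opposite

set_option linter.unusedSectionVars false

namespace Groth.Agent.BMLib

open BMCoh

variable {V : ObjectProperty Scheme.{u}} [IsConstructible V] {R : Type u} [CommRing R] {A : Coefs R}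
variable (T : PreTheory V R A) {M : A.Cat}

/-- Restriction, on elements. -/
abbrev pl {X Y : Obj V} (f : X ⟶ Y) {i n : ℤ} (a : T.gp Y M i n) : T.gp X M i n :=
  (T.pull f M i n).hom a

/-- The index equations for a map of relative codimension `c`. -/
abbrev Deg (c i n i' n' : ℤ) : Prop := i' = i + 2 * c ∧ n' = n + c

/-- The index equations for a residue of codimension `c`. -/
abbrev RDeg (c i n i' n' : ℤ) : Prop := i' = i + 1 - 2 * c ∧ n' = n - c

/-- Push-forward, on elements. -/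
abbrev pu {X Y : Obj V} (f : X.scheme ⟶ Y.scheme) [IsProper f] {i n i' n' : ℤ}
    (h : Deg (relCodim X.scheme Y.scheme) i n i' n') (a : T.gp X M i n) : T.gp Y M i' n' :=
  (T.push f M i n i' n' h.1 h.2).hom a

/-- Residue, on elements. -/
abbrev ru {X : Obj V} (D : Decomp X) {i n i' n' : ℤ} (h : RDeg D.codim i n i' n')
    (a : T.gp D.U M i n) : T.gp D.Z M i' n' :=
  (T.res D M i n i' n' h.1 h.2).hom a

variable {i n i' n' i'' n'' : ℤ}

lemma pl_id {X : Obj V} (a : T.gp X M i n) : pl T (𝟙 X) a = a := by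
  simp [pl, PreTheory.pull]

lemma pl_comp {X Y Z : Obj V} (f : X ⟶ Y) (g : Y ⟶ Z) (a : T.gp Z M i n) :
    pl T (f ≫ g) a = pl T f (pl T g a) := by
  simp [pl, PreTheory.pull]

lemma pl_congr {X Y : Obj V} {f g : X ⟶ Y} (h : f.hom = g.hom) (a : T.gp Y M i n) :
    pl T f a = pl T g a := by rw [Hom.ext h]

lemma pl_pl {X Y Z : Obj V} (f : X ⟶ Y) (g : Y ⟶ Z) (h : X ⟶ Z) (e : f.hom ≫ g.hom = h.hom)
    (a : T.gp Z M i n) : pl T f (pl T g a) = pl T h a := by
  rw [← pl_comp]; exact pl_congr T e a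

lemma pu_congr {X Y : Obj V} {f g : X.scheme ⟶ Y.scheme} [IsProper f] [IsProper g] (e : f = g)
    (h : Deg (relCodim X.scheme Y.scheme) i n i' n') (a : T.gp X M i n) :
    pu T f h a = pu T g h a := by
  subst e; rfl

lemma pu_id {X : Obj V} (h : Deg (relCodim X.scheme X.scheme) i n i n) (a : T.gp X M i n) :
    pu T (𝟙 X.scheme) h a = a := by
  simp [pu, T.push_id X M i n h.1 h.2]

lemma pu_pu {X Y Z : Obj V} (f : X.scheme ⟶ Y.scheme) (g : Y.scheme ⟶ Z.scheme) [IsProper f]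
    [IsProper g] (q : X.scheme ⟶ Z.scheme) [IsProper q] (e : f ≫ g = q)
    (h : Deg (relCodim X.scheme Y.scheme) i n i' n')
    (h' : Deg (relCodim Y.scheme Z.scheme) i' n' i'' n'')
    (h'' : Deg (relCodim X.scheme Z.scheme) i n i'' n'') (a : T.gp X M i n) :
    pu T g h' (pu T f h a) = pu T q h'' a := by
  subst e
  exact congr($(T.push_comp f g M i n i' n' i'' n'' h.1 h.2 h'.1 h'.2 h''.1 h''.2).hom a)

lemma pl_pu {X Y X' Y' : Obj V} (f : X.scheme ⟶ Y.scheme) [IsProper f]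
    (f' : X'.scheme ⟶ Y'.scheme) [IsProper f'] (g : Y' ⟶ Y) (g' : X' ⟶ X)
    (sq : IsPullback g'.hom f' f g.hom) (h : Deg (relCodim X.scheme Y.scheme) i n i' n')
    (h' : Deg (relCodim X'.scheme Y'.scheme) i n i' n') (a : T.gp X M i n) :
    pl T g (pu T f h a) = pu T f' h' (pl T g' a) :=
  congr($(T.push_pull f f' g g' sq M i n i' n' h.1 h.2 h'.1 h'.2).hom a)

/-- The residue kills exactly restricted classes. -/
lemma ru_eq_zero_iff {X : Obj V} (D : Decomp X) (h : RDeg D.codim i n i' n') (a : T.gp D.U M i n) :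
    ru T D h a = 0 ↔ ∃ b : T.gp X M i n, pl T D.j b = a :=
  T.exact_pull_res D M i n i' n' h.1 h.2 a

lemma pu_ru {X : Obj V} (D : Decomp X) {k : ℤ} (hk : k = i + 1) (h : RDeg D.codim i n i' n')
    (h' : Deg (relCodim D.Z.scheme X.scheme) i' n' k n) (a : T.gp D.U M i n) :
    pu T D.i h' (ru T D h a) = 0 := by
  subst hk
  exact (T.exact_res_push D M i n i' n' h.1 h.2 h'.1 h'.2).apply_apply_eq_zero a

lemma pu_eq_zero_iff {X : Obj V} (D : Decomp X) {k : ℤ} (hk : k = i + 1)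
    (h : RDeg D.codim i n i' n') (h' : Deg (relCodim D.Z.scheme X.scheme) i' n' k n)
    (b : T.gp D.Z M i' n') :
    pu T D.i h' b = 0 ↔ ∃ a, ru T D h a = b := by
  subst hk
  exact T.exact_res_push D M i n i' n' h.1 h.2 h'.1 h'.2 b

lemma pl_eq_zero_iff {X : Obj V} (D : Decomp X)
    (h' : Deg (relCodim D.Z.scheme X.scheme) i' n' i n) (a : T.gp X M i n) :
    pl T D.j a = 0 ↔ ∃ b, pu T D.i h' b = a := by
  obtain ⟨k, rfl⟩ : ∃ k, i = k + 1 := ⟨i - 1, by ring⟩
  exact T.exact_push_pull D M k n i' n' h'.1 h'.2 a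

lemma pl_pu_self {X : Obj V} (D : Decomp X)
    (h' : Deg (relCodim D.Z.scheme X.scheme) i' n' i n) (b : T.gp D.Z M i' n') :
    pl T D.j (pu T D.i h' b) = 0 :=
  (pl_eq_zero_iff T D h' _).mpr ⟨b, rfl⟩

lemma pl_ru {X X' : Obj V} (D : Decomp X) (D' : Decomp X') (g : X' ⟶ X) (gZ : D'.Z ⟶ D.Z)
    (gU : D'.U ⟶ D.U) (eZ : gZ.hom ≫ D.i = D'.i ≫ g.hom) (eU : gU ≫ D.j = D'.j ≫ g)
    (h : RDeg D.codim i n i' n') (h' : RDeg D'.codim i n i' n') (a : T.gp D.U M i n) :
    pl T gZ (ru T D h a) = ru T D' h' (pl T gU a) :=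
  congr($(T.res_pull D D' g gZ gU eZ eU M i n i' n' h.1 h.2 h'.1 h'.2).hom a)

/-- Push-forward along a morphism of objects that is proper is split by restriction. -/
lemma pl_pu_retract {X Y : Obj V} (g : X ⟶ Y) [IsProper g.hom]
    (h : Deg (relCodim X.scheme Y.scheme) i n i n) (a : T.gp X M i n) :
    pl T g (pu T g.hom h a) = a := by
  have sq : IsPullback (𝟙 X : X ⟶ X).hom (𝟙 X.scheme) g.hom g.hom :=
    IsKernelPair.id_of_mono g.hom
  rw [pl_pu T g.hom (𝟙 X.scheme) g (𝟙 X) sq h (by simp [Deg, relCodim]) a, pl_id, pu_id]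

lemma deg_zero {X Y : Obj V} (g : X ⟶ Y) : Deg (relCodim X.scheme Y.scheme) i n i n := by
  simp [Deg, relCodim, g.dim_eq]

/-! ## Colimits over opens -/

section Colim

variable {X : Obj V} {P : X.scheme.Opens → Prop}

/-- The morphism of objects between two members of an index family. -/
abbrev idxHom {U U' : Idx X P} (h : U'.1 ≤ U.1) : X.res U'.1 ⟶ X.res U.1 :=
  X.resLE h (U'.2.2.trans U.2.2.symm)

/-- The canonical map into the colimit, on elements. -/
abbrev cl (U : Idx X P) (a : T.gp (X.res U.1) M i n) : (T.ocolim X P i n).obj M :=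
  ((T.ocolimι X P i n U).app M).hom a

lemma cl_pl {U U' : Idx X P} (h : U'.1 ≤ U.1) (a : T.gp (X.res U.1) M i n) :
    cl T U' (pl T (idxHom h) a) = cl T U a := by
  have := NatTrans.congr_app
    (colimit.w ((idxDiag X P).op ⋙ T.H i n) (homOfLE (show U' ≤ U from h)).op) M
  exact congr($(this).hom a)

/-- The value of the colimit at a coefficient module as a colimit of modules. -/
def colimAt (M : A.Cat) (i n : ℤ) :
    IsColimit (((evaluation A.Cat (ModuleCat.{u} R)).obj M).mapCocone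
      (colimit.cocone ((idxDiag X P).op ⋙ T.H i n))) :=
  isColimitOfPreserves _ (colimit.isColimit _)

/-- Maps out of the colimit are determined on representatives. -/
lemma ocolim_hom_ext {N : ModuleCat.{u} R} {f g : (T.ocolim X P i n).obj M ⟶ N}
    (h : ∀ (U : Idx X P) (a : T.gp (X.res U.1) M i n), f.hom (cl T U a) = g.hom (cl T U a)) :
    f = g :=
  (colimAt T M i n).hom_ext fun U => ModuleCat.hom_ext (LinearMap.ext (h U.unop))

/-- Directedness of an index family. -/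
def IdxDir (X : Obj V) (P : X.scheme.Opens → Prop) : Prop :=
  Nonempty (Idx X P) ∧ ∀ U U' : Idx X P, ∃ W : Idx X P, W.1 ≤ U.1 ∧ W.1 ≤ U'.1

lemma isFiltered_of_dir (d : IdxDir X P) : IsFiltered (Idx X P)ᵒᵖ := by
  have := d.1
  have : IsCodirectedOrder (Idx X P) := ⟨fun U U' => d.2 U U'⟩
  infer_instance

lemma exists_cl (d : IdxDir X P) (z : (T.ocolim X P i n).obj M) :
    ∃ (U : Idx X P) (a : T.gp (X.res U.1) M i n), cl T U a = z := by
  have := isFiltered_of_dir d
  obtain ⟨U, a, h⟩ := Concrete.isColimit_exists_rep _ (colimAt T M i n) z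
  exact ⟨U.unop, a, h⟩

lemma cl_eq_cl_iff (d : IdxDir X P) {U U' : Idx X P} (a : T.gp (X.res U.1) M i n)
    (a' : T.gp (X.res U'.1) M i n) :
    cl T U a = cl T U' a' ↔ ∃ (W : Idx X P) (h : W.1 ≤ U.1) (h' : W.1 ≤ U'.1),
      pl T (idxHom h) a = pl T (idxHom h') a' := by
  have := isFiltered_of_dir d
  refine (Concrete.isColimit_rep_eq_iff_exists _ (i := op U) (j := op U')
    (colimAt T M i n) a a').trans ⟨?_, ?_⟩
  · rintro ⟨k, f, g, e⟩
    exact ⟨k.unop, leOfHom f.unop, leOfHom g.unop, e⟩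
  · rintro ⟨W, h, h', e⟩
    exact ⟨op W, (homOfLE (show W ≤ U from h)).op, (homOfLE (show W ≤ U' from h')).op, e⟩

lemma cl_eq_zero_iff (d : IdxDir X P) {U : Idx X P} (a : T.gp (X.res U.1) M i n) :
    cl T U a = 0 ↔ ∃ (W : Idx X P) (h : W.1 ≤ U.1), pl T (idxHom h) a = 0 := by
  constructor
  · intro e
    obtain ⟨W, h, h', e'⟩ := (cl_eq_cl_iff T d a (0 : T.gp (X.res U.1) M i n)).mp
      (by rw [e]; simp [cl])
    exact ⟨W, h, by rw [e']; simp [pl]⟩
  · rintro ⟨W, h, e⟩
    rw [← cl_pl T h, e]; simp [cl]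

lemma ocolimMap_cl {Q : X.scheme.Opens → Prop} (hPQ : ∀ U, P U → Q U) (U : Idx X P)
    (a : T.gp (X.res U.1) M i n) :
    ((T.ocolimMap X hPQ i n).app M).hom (cl T U a) =
      cl T (P := Q) ⟨U.1, hPQ _ U.2.1, U.2.2⟩ a := by
  have := NatTrans.congr_app
    (colimit.ι_pre ((idxDiag X Q).op ⋙ T.H i n) (idxIncl X hPQ).op (op U)) M
  exact congr($(this).hom a)

end Colim

end Groth.Agent.BMLib
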