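import Groth.Agent.BMLib.Point
import Groth.Prelude.Def_BMCoh4
import Mathlib.AlgebraicGeometry.IdealSheaf.Functorial

/-!
# Push-forward between groups of points
-/

universe u

noncomputable section

open AlgebraicGeometry CategoryTheory CategoryTheory.Limits Topology TopologicalSpace Opposite

set_option linter.unusedSectionVars false

namespace Groth.Agent.BMLib

open BMCoh

/-- A closed map does not raise the dimension of the closure of a point. -/
lemma pdim_le_of_isClosedMap {X Y : Scheme.{u}} (hX : topologicalKrullDim X < ⊤)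
    (hY : topologicalKrullDim Y < ⊤) (f : X ⟶ Y) (hf : IsClosedMap f) (q : X) :
    WeilCoh.pdim Y (f q) ≤ WeilCoh.pdim X q := by
  induction hk : WeilCoh.pdim X q using Nat.strong_induction_on generalizing q with
  | _ k ih =>
    by_contra hlt
    push Not at hlt
    obtain ⟨z, hz, hzk⟩ := exists_specializes_pdim_eq hY (f q) (n := k) hlt.le
    have hzim : z ∈ f '' closure ({q} : Set X) := by
      have : closure ({f q} : Set Y) ⊆ f '' closure ({q} : Set X) :=
        (hf _ isClosed_closure).closure_subset_iff.mpr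
          (Set.singleton_subset_iff.mpr ⟨q, subset_closure rfl, rfl⟩)
      exact this (specializes_iff_mem_closure.mp hz)
    obtain ⟨q', hq', rfl⟩ := hzim
    have hne : q ≠ q' := by rintro rfl; omega
    have := pdim_lt_of_specializes hX (specializes_iff_mem_closure.mpr hq') hne
    have := ih _ (hk ▸ this) q' rfl
    omega

variable {V : ObjectProperty Scheme.{u}} [IsConstructible V]
variable {R : Type u} [CommRing R] {A : Coefs R} {T : PreTheory V R A}
variable {Y X : Obj V} (φ : Y.scheme ⟶ X.scheme) [IsProper φ] {y : Y.scheme} {x : X.scheme}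

/-- The map of reduced closures of points. -/
def ptPsi (h : φ y = x) : (Y.ptSub y).scheme ⟶ (X.ptSub x).scheme :=
  Scheme.IdealSheafData.subschemeMap (Y.ptIdeal y) (X.ptIdeal x) φ (by
    rw [Scheme.IdealSheafData.map_vanishingIdeal]
    refine Scheme.IdealSheafData.vanishingIdeal_antimono ?_
    refine Closeds.closure_le.mpr ?_
    rintro _ ⟨q, hq, rfl⟩
    have hs : y ⤳ q := specializes_iff_mem_closure.mpr hq
    exact specializes_iff_mem_closure.mp (h ▸ hs.map φ.continuous))

@[reassoc]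
lemma ptPsi_ι (h : φ y = x) : ptPsi φ h ≫ X.ptSubι x = Y.ptSubι y ≫ φ :=
  Scheme.IdealSheafData.subschemeMap_subschemeι _ _ _ _

lemma isProper_ptPsi (h : φ y = x) : IsProper (ptPsi φ h) := by
  have : IsProper (ptPsi φ h ≫ X.ptSubι x) := by rw [ptPsi_ι]; infer_instance
  exact IsProper.of_comp _ (X.ptSubι x)

/-- The class of a point is computed on pieces mapping properly. -/
lemma exists_cofinal (h : φ y = x)
    (hc : relCodim (Y.ptSub y).scheme (X.ptSub x).scheme = 0) (W : ptIdx Y y) :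
    ∃ (W' : ptIdx X x) (W₀ : ptIdx Y y),
      W₀.1 ≤ W.1 ∧ W₀.1 = ptPsi φ h ⁻¹ᵁ W'.1 := by
  have := isProper_ptPsi φ h
  have hpd : WeilCoh.pdim X.scheme x = WeilCoh.pdim Y.scheme y := by
    unfold relCodim at hc
    rw [dim_ptSub, dim_ptSub] at hc
    omega
  obtain ⟨py, hpy⟩ : y ∈ Set.range (Y.ptSubι y) := by
    rw [range_ptSubι]; exact subset_closure rfl
  let px := ptPsi φ h py
  have hpx : X.ptSubι x px = x := by
    show (ptPsi φ h ≫ X.ptSubι x) py = x
    rw [ptPsi_ι, Scheme.Hom.comp_apply, hpy, h]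
  have hyW : py ∈ W.1 := by
    obtain ⟨O, hyO, hO⟩ := mem_open_of_nonempty W
    rw [← hO]
    show Y.ptSubι y py ∈ O
    rwa [hpy]
  let C : Set (X.ptSub x).scheme := ptPsi φ h '' (W.1 : Set (Y.ptSub y).scheme)ᶜ
  have hC : IsClosed C := (ptPsi φ h).isClosedMap _ W.1.isOpen.isClosed_compl
  have hpxC : px ∉ C := by
    rintro ⟨q, hq, hqx⟩
    have hqy : y ≠ Y.ptSubι y q := fun e => hq (by
      have : q = py := (Y.ptSubι y).isClosedEmbedding.injective (by rw [hpy, ← e])
      rwa [this])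
    have hs : y ⤳ Y.ptSubι y q := specializes_iff_mem_closure.mpr
      (range_ptSubι Y y ▸ Set.mem_range_self q)
    have h1 := pdim_lt_of_specializes (fin Y) hs hqy
    have h2 := pdim_le_of_isClosedMap (fin Y) (fin X) φ φ.isClosedMap (Y.ptSubι y q)
    rw [← Scheme.Hom.comp_apply, ← ptPsi_ι φ h, Scheme.Hom.comp_apply, hqx, hpx] at h2
    omega
  let O' : (X.ptSub x).scheme.Opens := ⟨Cᶜ, hC.isOpen_compl⟩
  refine ⟨⟨O', ⟨px, hpxC⟩, (dim_ptSub_open X x O' ⟨px, hpxC⟩).trans (dim_ptSub X x).symm⟩,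
    ⟨ptPsi φ h ⁻¹ᵁ O', ⟨py, hpxC⟩,
      (dim_ptSub_open Y y _ ⟨py, hpxC⟩).trans (dim_ptSub Y y).symm⟩, ?_, rfl⟩
  intro q hq
  by_contra hqW
  exact hq ⟨q, hqW, rfl⟩

theorem subsingleton_ptPush : Subsingleton (T.PtPush φ y x) := by
  refine ⟨fun L L' => ?_⟩
  have : L.cpt = L'.cpt := by
    funext M i n
    refine ModuleCat.hom_ext (LinearMap.ext fun z => ?_)
    obtain ⟨W, a, rfl⟩ := exists_cl T (ptDir Y y) z
    obtain ⟨W', ⟨_, hW₀⟩, hle, rfl⟩ := exists_cofinal φ L.maps_pt L.codim_eq W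
    have := isProper_ptPsi φ L.maps_pt
    let W₀ : ptIdx Y y := ⟨_, hW₀⟩
    let f : ((Y.ptSub y).res W₀.1).scheme ⟶ ((X.ptSub x).res W'.1).scheme :=
      ptPsi φ L.maps_pt ∣_ W'.1
    have : IsProper f := IsZariskiLocalAtTarget.restrict (P := @IsProper) inferInstance W'.1
    have hf : f ≫ W'.1.ι ≫ X.ptSubι x = W₀.1.ι ≫ Y.ptSubι y ≫ φ := by
      show (ptPsi φ L.maps_pt ∣_ W'.1) ≫ _ = _
      rw [morphismRestrict_ι_assoc, ptPsi_ι]
    have hrc : relCodim ((Y.ptSub y).res W₀.1).scheme ((X.ptSub x).res W'.1).scheme = 0 := by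
      have h1 := W₀.2.2
      have h2 := W'.2.2
      have h3 := L.codim_eq
      simp only [relCodim] at *
      omega
    have hi : i = i + 2 * relCodim ((Y.ptSub y).res W₀.1).scheme ((X.ptSub x).res W'.1).scheme := by
      rw [hrc]; ring
    have hn : n = n + relCodim ((Y.ptSub y).res W₀.1).scheme ((X.ptSub x).res W'.1).scheme := by
      rw [hrc]; ring
    rw [← cl_pl T (U := W) (U' := W₀) hle a]
    have e1 := congr($(L.cpt_spec M i n W₀ W' f hf hi hn).hom (pl T (idxHom hle) a))
    have e2 := congr($(L'.cpt_spec M i n W₀ W' f hf hi hn).hom (pl T (idxHom hle) a))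
    exact e1.trans e2.symm
  cases L; cases L'; congr

end Groth.Agent.BMLib
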