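import Groth.Agent.BMLib.Multi
import Groth.Agent.BMLib.Pt
import Mathlib.AlgebraicGeometry.Morphisms.QuasiFinite
import Mathlib.AlgebraicGeometry.PullbackCarrier

/-!
# Pieces over a proper morphism
-/

universe u

noncomputable section

open AlgebraicGeometry CategoryTheory CategoryTheory.Limits Topology TopologicalSpace Opposite

set_option linter.unusedSectionVars false

namespace Groth.Agent.BMLib

open BMCoh

variable {V : ObjectProperty Scheme.{u}} [IsConstructible V] {Y X : Obj V}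
variable (φ : Y.scheme ⟶ X.scheme)

lemma eq_of_specializes_of_map_eq [LocallyQuasiFinite φ] {p q : Y.scheme} (h : p ⤳ q)
    (he : φ p = φ q) : p = q := by
  have := (φ.isDiscrete_preimage_singleton (φ q))
  rw [isDiscrete_iff_discreteTopology] at this
  exact congrArg Subtype.val (Specializes.eq
    ((subtype_specializes_iff (x := (⟨p, he⟩ : φ ⁻¹' {φ q})) (y := ⟨q, rfl⟩)).mpr h))

/-- A finite morphism preserves the dimension of the closure of a point. -/
lemma pdim_eq_of_finite [IsProper φ] [LocallyQuasiFinite φ] (p : Y.scheme) :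
    WeilCoh.pdim X.scheme (φ p) = WeilCoh.pdim Y.scheme p := by
  refine le_antisymm (pdim_le_of_isClosedMap (fin Y) (fin X) φ φ.isClosedMap p) ?_
  induction hk : WeilCoh.pdim X.scheme (φ p) using Nat.strong_induction_on generalizing p with
  | _ k ih =>
    by_contra hlt
    push Not at hlt
    obtain ⟨z, hz, hzk⟩ := exists_specializes_pdim_eq (fin Y) p (n := k) hlt.le
    have hne : φ p ≠ φ z := fun e => by
      obtain rfl := eq_of_specializes_of_map_eq φ hz e
      omega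
    have h1 := pdim_lt_of_specializes (fin X) (hz.map φ.continuous) hne
    have h2 := ih _ (hk ▸ h1) z rfl
    omega

section maps

variable [IsProper φ] {C : Closeds Y.scheme} {C' : Closeds X.scheme}
variable {W : Y.scheme.Opens} {U : X.scheme.Opens}

/-- The map of reduced closed subschemes. -/
def psiC (hC : ∀ p ∈ C, φ p ∈ C') : (red Y C).scheme ⟶ (red X C').scheme :=
  Scheme.IdealSheafData.subschemeMap (Scheme.IdealSheafData.vanishingIdeal C)
    (Scheme.IdealSheafData.vanishingIdeal C') φ (by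
      rw [Scheme.IdealSheafData.map_vanishingIdeal]
      refine Scheme.IdealSheafData.vanishingIdeal_antimono (Closeds.closure_le.mpr ?_)
      rintro _ ⟨q, hq, rfl⟩
      exact hC q hq)

@[reassoc]
lemma psiC_ι (hC : ∀ p ∈ C, φ p ∈ C') : psiC φ hC ≫ redι X C' = redι Y C ≫ φ :=
  Scheme.IdealSheafData.subschemeMap_subschemeι _ _ _ _

/-- The restriction of `φ` over an open. -/
def restrTo (h : W = φ ⁻¹ᵁ U) : (Y.res W).scheme ⟶ (X.res U).scheme :=
  IsOpenImmersion.lift U.ι (W.ι ≫ φ) (by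
    rw [Scheme.Opens.range_ι]
    rintro _ ⟨p, rfl⟩
    show φ (W.ι p) ∈ U
    exact (h.le : W ≤ φ ⁻¹ᵁ U) p.2)

@[reassoc]
lemma restrTo_ι (h : W = φ ⁻¹ᵁ U) : restrTo φ h ≫ U.ι = W.ι ≫ φ := IsOpenImmersion.lift_fac _ _ _

instance isProper_restrTo (h : W = φ ⁻¹ᵁ U) : IsProper (restrTo φ h) := by
  subst h
  have e : restrTo φ (rfl : φ ⁻¹ᵁ U = φ ⁻¹ᵁ U) = φ ∣_ U := by
    rw [← cancel_mono U.ι, restrTo_ι, morphismRestrict_ι]
  rw [e]
  exact IsZariskiLocalAtTarget.restrict (P := @IsProper) inferInstance U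

lemma isPullback_restrTo {W' : Y.scheme.Opens} {U' : X.scheme.Opens} (h : W = φ ⁻¹ᵁ U)
    (h' : W' = φ ⁻¹ᵁ U') (hU : U' ≤ U) (hW : W' ≤ W) :
    IsPullback (Y.scheme.homOfLE hW) (restrTo φ h') (restrTo φ h) (X.scheme.homOfLE hU) := by
  refine (IsOpenImmersion.isPullback (restrTo φ h') (Y.scheme.homOfLE hW) (X.scheme.homOfLE hU)
    (restrTo φ h) ?_ ?_).flip
  · rw [← cancel_mono U.ι]
    simp [restrTo_ι]
  · ext p
    show restrTo φ h p ∈ Set.range (X.scheme.homOfLE hU) ↔ p ∈ Set.range (Y.scheme.homOfLE hW)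
    rw [mem_range_homOfLE, mem_range_homOfLE, ← Scheme.Hom.comp_apply, restrTo_ι, h']
    rfl

/-- The map of pieces over `φ`. -/
def phiMap (hC : ∀ p ∈ C, φ p ∈ C') (h : W = φ ⁻¹ᵁ U) :
    (pc Y C W).scheme ⟶ (pc X C' U).scheme :=
  IsOpenImmersion.lift (pcOpen X C' U).ι ((pcOpen Y C W).ι ≫ psiC φ hC) (by
    rw [Scheme.Opens.range_ι]
    rintro _ ⟨p, rfl⟩
    show redι X C' ((_ ≫ psiC φ hC) p) ∈ U
    rw [← Scheme.Hom.comp_apply, Category.assoc, psiC_ι]
    exact (h.le : W ≤ φ ⁻¹ᵁ U) ((Set.ext_iff.mp (range_toX Y C W) _).mp ⟨p, rfl⟩).2)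

@[reassoc]
lemma phiMap_toX (hC : ∀ p ∈ C, φ p ∈ C') (h : W = φ ⁻¹ᵁ U) :
    phiMap φ hC h ≫ toX X C' U = toX Y C W ≫ φ := by
  show IsOpenImmersion.lift (pcOpen X C' U).ι _ _ ≫ (pcOpen X C' U).ι ≫ redι X C' = _
  rw [IsOpenImmersion.lift_fac_assoc, Category.assoc, psiC_ι, Category.assoc]

@[reassoc]
lemma phiMap_pi (hC : ∀ p ∈ C, φ p ∈ C') (h : W = φ ⁻¹ᵁ U) :
    phiMap φ hC h ≫ pi X C' U = pi Y C W ≫ restrTo φ h := by
  rw [← cancel_mono U.ι]
  simp only [Category.assoc, pi_ι, phiMap_toX, restrTo_ι, pi_ι_assoc]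

instance isProper_phiMap (hC : ∀ p ∈ C, φ p ∈ C') (h : W = φ ⁻¹ᵁ U) :
    IsProper (phiMap φ hC h) := by
  have : IsProper (phiMap φ hC h ≫ pi X C' U) := by rw [phiMap_pi]; infer_instance
  exact IsProper.of_comp _ (pi X C' U)

end maps

end Groth.Agent.BMLib
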