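import Groth.Agent.BMLib.Ops

/-!
# Gysin sequences around a point
-/

universe u

noncomputable section

open AlgebraicGeometry CategoryTheory CategoryTheory.Limits Topology TopologicalSpace Opposite

set_option linter.unusedSectionVars false

namespace Groth.Agent.BMLib

open BMCoh

variable {V : ObjectProperty Scheme.{u}} [IsConstructible V] {X : Obj V}

section codim

variable {x y : X.scheme} {j : ℕ}

lemma codim_le_of_pdim_le (h : WeilCoh.pdim X.scheme x ≤ WeilCoh.pdim X.scheme y) :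
    WeilCoh.codim X.scheme y ≤ WeilCoh.codim X.scheme x := by
  unfold WeilCoh.codim; omega

lemma codim_lt_of_specializes (h : y ⤳ x) (hne : y ≠ x) :
    WeilCoh.codim X.scheme y < WeilCoh.codim X.scheme x := by
  have h1 := pdim_lt_of_specializes (fin X) h hne
  have h2 := pdim_le_dim (fin X) y
  unfold WeilCoh.codim; omega

lemma codim_le_of_specializes (h : x ⤳ y) :
    WeilCoh.codim X.scheme x ≤ WeilCoh.codim X.scheme y :=
  codim_le_of_pdim_le (pdim_le_of_specializes (fin X) h)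

lemma pdim_add_codim (x : X.scheme) :
    (WeilCoh.pdim X.scheme x : ℤ) + WeilCoh.codim X.scheme x = WeilCoh.dim X.scheme := by
  have := pdim_le_dim (fin X) x
  unfold WeilCoh.codim; omega

lemma dim_of_containsFj {U : X.scheme.Opens} (h : ContainsFj X j U) :
    WeilCoh.dim (U : Scheme.{u}) = WeilCoh.dim X.scheme :=
  dim_open_of_codim_zero_mem X fun y hy => h y (by omega)

/-- An open containing `F_j X` as an index. -/
abbrev fjIdx (U : X.scheme.Opens) (h : ContainsFj X j U) : Idx X (ContainsFj X j) :=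
  ⟨U, h, dim_of_containsFj h⟩

lemma containsFj_inf {U U' : X.scheme.Opens} (h : ContainsFj X j U) (h' : ContainsFj X j U') :
    ContainsFj X j (U ⊓ U') :=
  fun y hy => ⟨h y hy, h' y hy⟩

lemma containsFj_of_le {U U' : X.scheme.Opens} (h : ContainsFj X j U) (hle : U ≤ U') :
    ContainsFj X j U' :=
  fun y hy => hle (h y hy)

lemma containsFj_top (X : Obj V) (j : ℕ) : ContainsFj X j ⊤ := fun _ _ => trivial

lemma fjDir (X : Obj V) (j : ℕ) : IdxDir X (ContainsFj X j) :=
  ⟨⟨fjIdx ⊤ (containsFj_top X j)⟩,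
    fun U U' => ⟨fjIdx (U.1 ⊓ U'.1) (containsFj_inf U.2.1 U'.2.1), inf_le_left, inf_le_right⟩⟩

/-- Remove a closed subset from an open. -/
abbrev sdiffC (Y : X.scheme.Opens) (C : Closeds X.scheme) : X.scheme.Opens :=
  ⟨(Y : Set X.scheme) \ C, Y.isOpen.sdiff C.isClosed⟩

lemma sdiffC_le (Y : X.scheme.Opens) (C : Closeds X.scheme) : sdiffC Y C ≤ Y := fun _ hp => hp.1

/-- Removing the closure of a point of codimension `> j`. -/
lemma containsFj_sdiff {Y : X.scheme.Opens} (h : ContainsFj X j Y)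
    (hx : j < WeilCoh.codim X.scheme x) : ContainsFj X j (sdiffC Y (clPt X x)) :=
  fun y hy => ⟨h y hy, fun hyc => by
    have := codim_le_of_specializes (specializes_iff_mem_closure.mpr hyc)
    omega⟩

end codim

section nbd

/-- `Y` is obtained from `U` by adding an open piece of the closure of `x`. -/
structure Nbd (x : X.scheme) (U Y : X.scheme.Opens) : Prop where
  le : U ≤ Y
  notMem : x ∉ U
  mem : x ∈ Y
  sub : ∀ p ∈ Y, p ∉ U → x ⤳ p
  dim : WeilCoh.dim (U : Scheme.{u}) = WeilCoh.dim X.scheme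

variable {x : X.scheme} {U Y : X.scheme.Opens}

lemma Nbd.dimY (N : Nbd x U Y) : WeilCoh.dim (Y : Scheme.{u}) = WeilCoh.dim X.scheme :=
  dim_open_eq_of_le X N.le N.dim

lemma Nbd.mem_iff (N : Nbd x U Y) {p : X.scheme} (hp : p ∈ Y) : p ∈ U ↔ p ∉ clPt X x := by
  constructor
  · intro hU hc
    exact N.notMem ((specializes_iff_mem_closure.mpr hc).mem_open U.isOpen hU)
  · intro hc
    by_contra hU
    exact hc (specializes_iff_mem_closure.mp (N.sub p hp hU))

/-- The decomposition of a neighbourhood. -/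
abbrev Nbd.dec (N : Nbd x U Y) : Decomp (X.res Y) :=
  BMLib.dec X (clPt X x) N.le (fun _ hp => N.mem_iff hp) (N.dim.trans N.dimY.symm)

lemma relCodim_pc (hxY : x ∈ Y) (hd : WeilCoh.dim (Y : Scheme.{u}) = WeilCoh.dim X.scheme) :
    relCodim (pc X (clPt X x) Y).scheme (X.res Y).scheme = WeilCoh.codim X.scheme x := by
  have h1 := pdim_add_codim x
  have h2 := dim_pc_clPt hxY
  simp only [relCodim, hd] at *
  omega

lemma Nbd.codim_eq (N : Nbd x U Y) : N.dec.codim = WeilCoh.codim X.scheme x :=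
  relCodim_pc N.mem N.dimY

lemma Nbd.shrink (N : Nbd x U Y) {O : X.scheme.Opens} (hx : x ∈ O) : Nbd x U (U ⊔ Y ⊓ O) where
  le := le_sup_left
  notMem := N.notMem
  mem := Or.inr ⟨N.mem, hx⟩
  sub := fun p hp hpU => by
    rcases hp with hp | hp
    · exact absurd hp hpU
    · exact N.sub p hp.1 hpU
  dim := N.dim

lemma Nbd.shrink_le (N : Nbd x U Y) (O : X.scheme.Opens) : U ⊔ Y ⊓ O ≤ Y :=
  sup_le N.le inf_le_left

lemma Nbd.shrink_inter (N : Nbd x U Y) (O : X.scheme.Opens) {p : X.scheme}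
    (hp : p ∈ U ⊔ Y ⊓ O) (hc : p ∈ clPt X x) : p ∈ O := by
  rcases hp with hp | hp
  · exact absurd hc ((N.mem_iff (N.le hp)).mp hp)
  · exact hp.2

lemma nbd_sdiff {Y : X.scheme.Opens} (hxY : x ∈ Y)
    (hd : WeilCoh.dim (sdiffC Y (clPt X x) : Scheme.{u}) = WeilCoh.dim X.scheme) :
    Nbd x (sdiffC Y (clPt X x)) Y where
  le := sdiffC_le _ _
  notMem := fun h => h.2 (subset_closure rfl)
  mem := hxY
  sub := fun p hp hpU => by
    by_contra hc
    exact hpU ⟨hp, fun h => hc (specializes_iff_mem_closure.mpr h)⟩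
  dim := hd

/-- Near a maximal point of the complement of an open only its closure is left. -/
lemma exists_open_sub (hx : x ∉ U) (hmax : ∀ y, y ∉ U → y ⤳ x → y = x) :
    ∃ O : X.scheme.Opens, x ∈ O ∧ ∀ p ∈ O, p ∉ U → x ⤳ p := by
  obtain ⟨S, hSf, hSc, hSi, hSU⟩ :=
    NoetherianSpace.exists_finite_set_isClosed_irreducible (U.isOpen.isClosed_compl)
  let T : Set X.scheme := ⋃₀ {t ∈ S | ¬ t ⊆ closure {x}}
  have hT : IsClosed T := by
    rw [show T = ⋃ t ∈ {t ∈ S | ¬ t ⊆ closure {x}}, t from Set.sUnion_eq_biUnion]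
    exact (hSf.subset fun t ht => ht.1).isClosed_biUnion fun t ht => hSc t ht.1
  have hxT : x ∉ T := by
    rintro ⟨t, ⟨htS, htx⟩, hxt⟩
    have hgen := (hSi t htS).isGenericPoint_genericPoint_closure
    rw [(hSc t htS).closure_eq] at hgen
    have heq : (hSi t htS).genericPoint = x := hmax _
      (hSU.symm.subset ⟨t, htS, hgen.mem⟩) (hgen.specializes hxt)
    exact htx (hgen.def.symm.subset.trans (by rw [heq]))
  refine ⟨⟨Tᶜ, hT.isOpen_compl⟩, hxT, ?_⟩
  intro p hp hpU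
  obtain ⟨t, htS, hpt⟩ := hSU.subset hpU
  by_contra hc
  exact hp ⟨t, ⟨htS, fun ht => hc (specializes_iff_mem_closure.mpr (ht hpt))⟩, hpt⟩

/-- A maximal point of the complement of an open has a neighbourhood. -/
lemma exists_nbd (hd : WeilCoh.dim (U : Scheme.{u}) = WeilCoh.dim X.scheme) (hx : x ∉ U)
    (hmax : ∀ y, y ∉ U → y ⤳ x → y = x) : ∃ Y, Nbd x U Y := by
  obtain ⟨O, hxO, hO⟩ := exists_open_sub hx hmax
  refine ⟨U ⊔ O, le_sup_left, hx, Or.inr hxO, ?_, hd⟩
  rintro p (hp | hp) hpU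
  · exact absurd hp hpU
  · exact hO p hp hpU

/-- The maximal points of a closed complement are finitely many. -/
lemma finite_maximal (U : X.scheme.Opens) :
    {x : X.scheme | x ∉ U ∧ ∀ y, y ∉ U → y ⤳ x → y = x}.Finite := by
  obtain ⟨S, hSf, hSc, hSi, hSU⟩ :=
    NoetherianSpace.exists_finite_set_isClosed_irreducible (U.isOpen.isClosed_compl)
  have := hSf.to_subtype
  refine (Set.finite_range fun t : S => (hSi t.1 t.2).genericPoint).subset ?_
  rintro x ⟨hx, hmax⟩
  obtain ⟨t, htS, hxt⟩ := hSU.subset hx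
  have hgen := (hSi t htS).isGenericPoint_genericPoint_closure
  rw [(hSc t htS).closure_eq] at hgen
  exact ⟨⟨t, htS⟩, hmax _ (hSU.symm.subset ⟨t, htS, hgen.mem⟩) (hgen.specializes hxt)⟩

lemma exists_maximal {C : Set X.scheme} (h : C.Nonempty) :
    ∃ x ∈ C, ∀ y ∈ C, y ⤳ x → y = x := by
  classical
  obtain ⟨p, hp⟩ := h
  have hS : ∀ y ∈ C, WeilCoh.codim X.scheme y ≤ WeilCoh.dim X.scheme :=
    fun y _ => Nat.sub_le _ _
  let P : ℕ → Prop := fun k => ∃ y ∈ C, WeilCoh.codim X.scheme y = k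
  obtain ⟨x, hx, hxk⟩ := Nat.find_spec (⟨_, p, hp, rfl⟩ : ∃ k, P k)
  refine ⟨x, hx, fun y hy hyx => ?_⟩
  by_contra hne
  have h1 := codim_lt_of_specializes hyx hne
  have h2 : Nat.find (⟨_, p, hp, rfl⟩ : ∃ k, P k) ≤ WeilCoh.codim X.scheme y :=
    Nat.find_min' _ ⟨y, hy, rfl⟩
  omega

lemma maximal_of_codim {j : ℕ} (hU : ContainsFj X j U) (hx : WeilCoh.codim X.scheme x ≤ j + 1)
    (y : X.scheme) (hy : y ∉ U) (h : y ⤳ x) : y = x := by
  by_contra hne
  have := codim_lt_of_specializes h hne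
  exact hy (hU y (by omega))

end nbd

section point

variable {R : Type u} [CommRing R] {A : Coefs R} (T : PreTheory V R A) {M : A.Cat}
variable {i n i' n' : ℤ} {x : X.scheme} {U Y Y' : X.scheme.Opens}

/-- The piece of the closure of `x` in `Y` as an index. -/
abbrev ptW (Y : X.scheme.Opens) (hxY : x ∈ Y) : ptIdx X x :=
  ⟨pcOpen X (clPt X x) Y, by
    obtain ⟨p, hp⟩ : x ∈ Set.range (redι X (clPt X x)) := by
      rw [range_redι]; exact subset_closure rfl
    exact ⟨p, by show redι X (clPt X x) p ∈ Y; rwa [hp]⟩,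
    (dim_pc_clPt hxY).trans (dim_ptSub X x).symm⟩

/-- Restriction between pieces of the closure of a point. -/
abbrev ptMor (h : Y' ≤ Y) (hx : x ∈ Y') : pc X (clPt X x) Y' ⟶ pc X (clPt X x) Y :=
  pcMor (le_refl _) h (fun _ hp => hp.1) ((dim_pc_clPt hx).trans (dim_pc_clPt (h hx)).symm)

/-- The class at `x` of a class on a piece. -/
abbrev cp (Y : X.scheme.Opens) (hxY : x ∈ Y) (b : T.gp (pc X (clPt X x) Y) M i n) :
    T.ptGp X x M i n :=
  cl T (ptW Y hxY) b

lemma ptMor_eq_idxHom (h : Y' ≤ Y) (hx : x ∈ Y') :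
    ptMor (X := X) h hx =
      idxHom (U := ptW Y (h hx)) (U' := ptW Y' hx) (fun _ hp => h hp) := by
  refine Hom.ext ?_
  show pcMap (le_refl _) h = (red X (clPt X x)).scheme.homOfLE
    (show pcOpen X (clPt X x) Y' ≤ pcOpen X (clPt X x) Y from fun _ hp => h hp)
  rw [← cancel_mono (toX X (clPt X x) Y), pcMap_toX, Scheme.homOfLE_ι_assoc]

lemma cp_pl (h : Y' ≤ Y) (hx : x ∈ Y') (b : T.gp (pc X (clPt X x) Y) M i n) :
    cp T Y' hx (pl T (ptMor h hx) b) = cp T Y (h hx) b := by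
  rw [ptMor_eq_idxHom]; exact cl_pl T (U := ptW Y (h hx)) (U' := ptW Y' hx) _ b

lemma ptDir (X : Obj V) (x : X.scheme) :
    IdxDir (X.ptSub x) (fun W => (W : Set (X.ptSub x).scheme).Nonempty) := by
  have := irreducibleSpace_ptSub X x
  refine ⟨⟨ptW ⊤ trivial⟩, fun W W' => ?_⟩
  have hne : ((W.1 ⊓ W'.1 : (X.ptSub x).scheme.Opens) : Set (X.ptSub x).scheme).Nonempty :=
    nonempty_preirreducible_inter W.1.isOpen W'.1.isOpen W.2.1 W'.2.1
  exact ⟨⟨W.1 ⊓ W'.1, hne, (dim_ptSub_open X x _ hne).trans (dim_ptSub X x).symm⟩,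
    inf_le_left, inf_le_right⟩

lemma mem_open_of_nonempty (W : ptIdx X x) : ∃ O : X.scheme.Opens, x ∈ O ∧
    pcOpen X (clPt X x) O = W.1 := by
  obtain ⟨O, hO, hOW⟩ :=
    (redι X (clPt X x)).isClosedEmbedding.isInducing.isOpen_iff.mp W.1.isOpen
  refine ⟨⟨O, hO⟩, ?_, Opens.ext hOW⟩
  obtain ⟨p, hp⟩ := W.2.1
  have h1 : redι X (clPt X x) p ∈ O := hOW.symm.subset hp
  have h2 : redι X (clPt X x) p ∈ closure ({x} : Set X.scheme) := by
    rw [← Closeds.coe_mk (closure ({x} : Set X.scheme)) isClosed_closure, ← range_redι]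
    exact Set.mem_range_self p
  exact (specializes_iff_mem_closure.mpr h2).mem_open hO h1

/-- Every class at `x` comes from a piece in an open with everything of smaller codimension. -/
lemma exists_cp (z : T.ptGp X x M i n) {j : ℕ} (hj : j ≤ WeilCoh.codim X.scheme x) :
    ∃ (Y : X.scheme.Opens) (hxY : x ∈ Y) (b : T.gp (pc X (clPt X x) Y) M i n),
      ContainsFj X j Y ∧ cp T Y hxY b = z := by
  obtain ⟨W, a, rfl⟩ := exists_cl T (ptDir X x) z
  obtain ⟨O, hxO, hOW⟩ := mem_open_of_nonempty W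
  let Y : X.scheme.Opens := O ⊔ ⟨(closure ({x} : Set X.scheme))ᶜ, isClosed_closure.isOpen_compl⟩
  have hxY : x ∈ Y := Or.inl hxO
  have hW : (ptW (X := X) Y hxY).1 = W.1 := by
    rw [← hOW]
    ext p
    have : redι X (clPt X x) p ∈ closure ({x} : Set X.scheme) := by
      rw [← Closeds.coe_mk (closure ({x} : Set X.scheme)) isClosed_closure, ← range_redι]
      exact Set.mem_range_self p
    exact ⟨fun h => h.resolve_right fun h' => h' this, Or.inl⟩
  refine ⟨Y, hxY, pl T (idxHom (U' := ptW Y hxY) hW.le) a, ?_, ?_⟩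
  · intro y hy
    by_cases hyc : y ∈ closure ({x} : Set X.scheme)
    · have hs := specializes_iff_mem_closure.mpr hyc
      by_cases hyx : x = y
      · exact hyx ▸ hxY
      · have := codim_lt_of_specializes hs hyx
        omega
    · exact Or.inr hyc
  · exact cl_pl T _ a

/-- A vanishing class at `x` vanishes on a smaller piece. -/
lemma exists_cp_zero {hxY : x ∈ Y} {b : T.gp (pc X (clPt X x) Y) M i n} (h : cp T Y hxY b = 0) :
    ∃ O : X.scheme.Opens, x ∈ O ∧ ∀ (Y' : X.scheme.Opens) (hle : Y' ≤ Y) (hx : x ∈ Y'),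
      (∀ p ∈ Y', p ∈ clPt X x → p ∈ O) → pl T (ptMor hle hx) b = 0 := by
  obtain ⟨W, hW, hb⟩ := (cl_eq_zero_iff T (ptDir X x) (U := ptW Y hxY) b).mp h
  obtain ⟨O, hxO, hOW⟩ := mem_open_of_nonempty W
  refine ⟨O, hxO, fun Y' hle hx hO => ?_⟩
  have hsub : (ptW (X := X) Y' hx).1 ≤ W.1 := by
    intro p hp
    rw [← hOW]
    refine hO _ hp ?_
    rw [← SetLike.mem_coe, ← range_redι]
    exact Set.mem_range_self p
  rw [ptMor_eq_idxHom, ← pl_pl T (idxHom (U' := ptW Y' hx) hsub) (idxHom hW)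
    (idxHom (U' := ptW Y' hx) (U := ptW Y hxY) (fun _ hp => hle hp)) (Scheme.homOfLE_homOfLE _ hsub hW),
    hb]
  simp [pl]

lemma pl_pu_pt (h : Y' ≤ Y) (hx : x ∈ Y')
    (hd : WeilCoh.dim (Y' : Scheme.{u}) = WeilCoh.dim (Y : Scheme.{u}))
    (hdeg : Deg (relCodim (pc X (clPt X x) Y).scheme (X.res Y).scheme) i n i' n')
    (hdeg' : Deg (relCodim (pc X (clPt X x) Y').scheme (X.res Y').scheme) i n i' n')
    (b : T.gp (pc X (clPt X x) Y) M i n) :
    pl T (X.resLE h hd) (pu T (pi X (clPt X x) Y) hdeg b) =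
      pu T (pi X (clPt X x) Y') hdeg' (pl T (ptMor h hx) b) :=
  pl_pu T (pi X (clPt X x) Y) (pi X (clPt X x) Y') (X.resLE h hd) (ptMor h hx)
    (isPullback_pcMap (le_refl _) h fun _ hp => hp.1) hdeg hdeg' b

/-- If the residue class at `x` vanishes, a class extends over a neighbourhood of `x`. -/
lemma exists_extend (N : Nbd x U Y) (a : T.gp (X.res U) M i n) (h : RDeg N.dec.codim i n i' n')
    (h0 : cp T Y N.mem (ru T N.dec h a) = 0) :
    ∃ (Y' : X.scheme.Opens) (N' : Nbd x U Y') (_ : Y' ≤ Y) (b : T.gp (X.res Y') M i n),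
      pl T N'.dec.j b = a := by
  obtain ⟨O, hxO, hO⟩ := exists_cp_zero T h0
  let N' := N.shrink hxO
  refine ⟨_, N', N.shrink_le O, ?_⟩
  have hd' : RDeg N'.dec.codim i n i' n' := by
    rwa [N'.codim_eq, ← N.codim_eq]
  apply (ru_eq_zero_iff T N'.dec hd' a).mp
  have := pl_ru T N.dec N'.dec (X.resLE (N.shrink_le O) (N'.dimY.trans N.dimY.symm))
    (ptMor (N.shrink_le O) N'.mem) (𝟙 _)
    (pcMap_pi (le_refl (clPt X x)) (N.shrink_le O))
    (Hom.ext ((Category.id_comp _).trans (Scheme.homOfLE_homOfLE X.scheme N'.le (N.shrink_le O)).symm))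
    h hd' a
  rw [pl_id] at this
  rw [← this]
  exact hO _ _ _ fun p hp hc => N.shrink_inter O hp hc

/-- A class vanishing on `U` is a push-forward near `x`. -/
lemma exists_pu (N : Nbd x U Y) (a : T.gp (X.res Y) M i n) (h : pl T N.dec.j a = 0)
    (hdeg : Deg (relCodim N.dec.Z.scheme (X.res Y).scheme) i' n' i n) :
    ∃ b, pu T N.dec.i hdeg b = a :=
  (pl_eq_zero_iff T N.dec hdeg a).mp h

/-- A class vanishing on `U`, with no classes at `x` in the degree of push-forward, vanishes on a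
neighbourhood of `x`. -/
lemma exists_vanish (N : Nbd x U Y) (a : T.gp (X.res Y) M i n) (h : pl T N.dec.j a = 0)
    (hdeg : Deg (WeilCoh.codim X.scheme x) i' n' i n) (h0 : IsZero (T.ptGp X x M i' n')) :
    ∃ (Y' : X.scheme.Opens) (N' : Nbd x U Y') (hle : Y' ≤ Y),
      pl T (X.resLE hle (N'.dimY.trans N.dimY.symm)) a = 0 := by
  have hd : Deg (relCodim N.dec.Z.scheme (X.res Y).scheme) i' n' i n := by
    rwa [show relCodim N.dec.Z.scheme (X.res Y).scheme = _ from N.codim_eq]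
  obtain ⟨b, rfl⟩ := exists_pu T N a h hd
  have : cp T Y N.mem b = 0 := (ModuleCat.isZero_iff_subsingleton.mp h0).elim _ _
  obtain ⟨O, hxO, hO⟩ := exists_cp_zero T this
  let N' := N.shrink hxO
  refine ⟨_, N', N.shrink_le O, ?_⟩
  show pl T _ (pu T (pi X (clPt X x) Y) hd b) = 0
  have hd' : Deg (relCodim (pc X (clPt X x) (U ⊔ Y ⊓ O)).scheme (X.res (U ⊔ Y ⊓ O)).scheme)
      i' n' i n := by rwa [relCodim_pc N'.mem N'.dimY]
  rw [pl_pu_pt T (N.shrink_le O) N'.mem _ hd hd' b,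
    hO _ _ _ fun p hp hc => N.shrink_inter O hp hc]
  simp [pu]

end point

end Groth.Agent.BMLib
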