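import Groth.Agent.BMLib.Birat
import Groth.Agent.BMLib.Pt

/-!
# Birational push-forward of groups of points is bijective
-/

universe u

noncomputable section

open AlgebraicGeometry CategoryTheory CategoryTheory.Limits Topology TopologicalSpace Opposite

set_option linter.unusedSectionVars false

namespace Groth.Agent.BMLib

open BMCoh

variable {V : ObjectProperty Scheme.{u}} [IsConstructible V]
variable {R : Type u} [CommRing R] {A : Coefs R} {T : PreTheory V R A} {M : A.Cat} {i n : ℤ}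

/-- Push-forward along an isomorphism is bijective. -/
lemma pu_bijective_of_isIso {Z W : Obj V} (f : Z.scheme ⟶ W.scheme) [IsIso f]
    (h : Deg (relCodim Z.scheme W.scheme) i n i n) :
    Function.Bijective (pu T f h : T.gp Z M i n → T.gp W M i n) := by
  have hd : relCodim W.scheme Z.scheme = 0 := by
    have := dim_eq_of_iso (asIso f)
    simp [relCodim, this]
  have h' : Deg (relCodim W.scheme Z.scheme) i n i n := by rw [hd]; simp [Deg]
  have hid : ∀ (U : Obj V), Deg (relCodim U.scheme U.scheme) i n i n := fun U => by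
    simp [Deg, relCodim]
  refine Function.bijective_iff_has_inverse.mpr ⟨pu T (inv f) h', fun a => ?_, fun a => ?_⟩
  · rw [pu_pu T f (inv f) (𝟙 _) (IsIso.hom_inv_id f) h h' (hid Z), pu_id]
  · rw [pu_pu T (inv f) f (𝟙 _) (IsIso.inv_hom_id f) h' h (hid W), pu_id]

lemma isIso_restrict_of_le {S S' : Scheme.{u}} (f : S' ⟶ S) {W U : S.Opens} (h : W ≤ U)
    [IsIso (f ∣_ U)] : IsIso (f ∣_ W) := by
  have h1 : IsIso ((f ∣_ U) ∣_ (U.ι ⁻¹ᵁ W)) :=
    IsZariskiLocalAtTarget.restrict (P := MorphismProperty.isomorphisms Scheme.{u})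
      (MorphismProperty.isomorphisms.infer_property (f ∣_ U)) _
  have h2 := ((MorphismProperty.isomorphisms Scheme.{u}).arrow_mk_iso_iff
    (morphismRestrictRestrict f U (U.ι ⁻¹ᵁ W))).mp h1
  have e : U.ι ''ᵁ (U.ι ⁻¹ᵁ W) = W := by
    rw [Scheme.Hom.image_preimage_eq_opensRange_inf, Scheme.Opens.opensRange_ι]
    exact inf_eq_right.mpr h
  rw [e] at h2
  exact h2

variable {Y X : Obj V} {φ : Y.scheme ⟶ X.scheme} [IsProper φ] {y : Y.scheme} {x : X.scheme}

/-- Push-forward of groups of points is bijective when the map of closures is an isomorphism over a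
nonempty open. -/
theorem ptPush_bijective (L : T.PtPush φ y x) {U : (X.ptSub x).scheme.Opens}
    (hU : (U : Set (X.ptSub x).scheme).Nonempty) [IsIso (ptPsi φ L.maps_pt ∣_ U)] :
    Function.Bijective (L.cpt M i n).hom := by
  have hψ := isProper_ptPsi φ L.maps_pt
  have := irreducibleSpace_ptSub X x
  have hsmall : ∀ W : ptIdx X x, ∃ W' : ptIdx X x, W'.1 ≤ W.1 ∧ W'.1 ≤ U := fun W =>
    ⟨⟨W.1 ⊓ U, nonempty_preirreducible_inter W.1.isOpen U.isOpen W.2.1 hU,
      (dim_ptSub_open X x _ (nonempty_preirreducible_inter W.1.isOpen U.isOpen W.2.1 hU)).trans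
        (dim_ptSub X x).symm⟩, inf_le_left, inf_le_right⟩
  have hpre : ∀ W' : ptIdx X x, W'.1 ≤ U → ∃ W₀ : ptIdx Y y, W₀.1 = ptPsi φ L.maps_pt ⁻¹ᵁ W'.1 := by
    intro W' hle
    have := isIso_restrict_of_le (ptPsi φ L.maps_pt) hle
    obtain ⟨p, hp⟩ := W'.2.1
    have hne : ((ptPsi φ L.maps_pt ⁻¹ᵁ W'.1 : (Y.ptSub y).scheme.Opens) :
        Set (Y.ptSub y).scheme).Nonempty :=
      ⟨(ptPsi φ L.maps_pt ⁻¹ᵁ W'.1).ι (inv (ptPsi φ L.maps_pt ∣_ W'.1) ⟨p, hp⟩),
        ((inv (ptPsi φ L.maps_pt ∣_ W'.1)) ⟨p, hp⟩).2⟩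
    exact ⟨⟨_, hne, (dim_ptSub_open Y y _ hne).trans (dim_ptSub Y y).symm⟩, rfl⟩
  have hspec : ∀ (W' : ptIdx X x) (W₀ : ptIdx Y y) (e : W₀.1 = ptPsi φ L.maps_pt ⁻¹ᵁ W'.1),
      ∃ (f : ((Y.ptSub y).res W₀.1).scheme ⟶ ((X.ptSub x).res W'.1).scheme) (_ : IsProper f)
        (h : Deg (relCodim ((Y.ptSub y).res W₀.1).scheme ((X.ptSub x).res W'.1).scheme) i n i n),
        (W'.1 ≤ U → IsIso f) ∧ f ≫ W'.1.ι = W₀.1.ι ≫ ptPsi φ L.maps_pt ∧
        ∀ a : T.gp ((Y.ptSub y).res W₀.1) M i n,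
          (L.cpt M i n).hom (cl T W₀ a) = cl T W' (pu T f h a) := by
    rintro W' ⟨_, hW₀⟩ rfl
    let W₀ : ptIdx Y y := ⟨_, hW₀⟩
    let f : ((Y.ptSub y).res W₀.1).scheme ⟶ ((X.ptSub x).res W'.1).scheme :=
      ptPsi φ L.maps_pt ∣_ W'.1
    have : IsProper f := IsZariskiLocalAtTarget.restrict (P := @IsProper) inferInstance W'.1
    have hf : f ≫ W'.1.ι ≫ X.ptSubι x = W₀.1.ι ≫ Y.ptSubι y ≫ φ := by
      show (ptPsi φ L.maps_pt ∣_ W'.1) ≫ _ = _
      rw [morphismRestrict_ι_assoc, ptPsi_ι]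
    have hrc : relCodim ((Y.ptSub y).res W₀.1).scheme ((X.ptSub x).res W'.1).scheme = 0 := by
      have h1 := W₀.2.2
      have h2 := W'.2.2
      have h3 := L.codim_eq
      simp only [relCodim] at *
      omega
    have h : Deg (relCodim ((Y.ptSub y).res W₀.1).scheme ((X.ptSub x).res W'.1).scheme) i n i n := by
      rw [hrc]; simp [Deg]
    exact ⟨f, this, h, fun hle => isIso_restrict_of_le (ptPsi φ L.maps_pt) hle, morphismRestrict_ι _ _,
      fun a => congr($(L.cpt_spec M i n W₀ W' f hf h.1 h.2).hom a)⟩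
  refine ⟨?_, fun z => ?_⟩
  · rw [injective_iff_map_eq_zero]
    intro v hv
    obtain ⟨W, a, rfl⟩ := exists_cl T (ptDir Y y) v
    obtain ⟨W', W₀, hle, e⟩ := exists_cofinal φ L.maps_pt L.codim_eq W
    obtain ⟨f, hfp, h, -, hf, hL⟩ := hspec W' W₀ e
    rw [← cl_pl T (U := W) (U' := W₀) hle a, hL] at hv
    obtain ⟨W₂, hle₂, h0⟩ := (cl_eq_zero_iff T (ptDir X x) (U := W') _).mp hv
    obtain ⟨W₃, hle₃, hle₃U⟩ := hsmall W₂
    obtain ⟨W₄, e₄⟩ := hpre W₃ hle₃U
    obtain ⟨f₃, hf₃p, h₃, hiso, hf₃, -⟩ := hspec W₃ W₄ e₄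
    have := hiso hle₃U
    have h43 : W₄.1 ≤ W₀.1 := by
      rw [e₄, e]; exact fun p hp => hle₂ (hle₃ hp)
    have sq : IsPullback (idxHom (U := W₀) (U' := W₄) h43).hom f₃ f
        (idxHom (U := W') (U' := W₃) (hle₃.trans hle₂)).hom := by
      refine (IsOpenImmersion.isPullback f₃ ((Y.ptSub y).scheme.homOfLE h43)
        ((X.ptSub x).scheme.homOfLE (hle₃.trans hle₂)) f ?_ ?_).flip
      · rw [← cancel_mono W'.1.ι]
        simp only [Category.assoc, hf, hf₃, Scheme.homOfLE_ι, Scheme.homOfLE_ι_assoc]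
      · ext p
        show f p ∈ Set.range ((X.ptSub x).scheme.homOfLE (hle₃.trans hle₂)) ↔
          p ∈ Set.range ((Y.ptSub y).scheme.homOfLE h43)
        rw [mem_range_homOfLE, mem_range_homOfLE, ← Scheme.Hom.comp_apply, hf, e₄]
        rfl
    have hz : pu T f₃ h₃ (pl T (idxHom h43) (pl T (idxHom hle) a)) = 0 := by
      rw [← pl_pu T f f₃ (idxHom (hle₃.trans hle₂)) (idxHom h43) sq h h₃]
      rw [← pl_pl T (idxHom hle₃) (idxHom hle₂) (idxHom (hle₃.trans hle₂))
        (Scheme.homOfLE_homOfLE _ hle₃ hle₂), h0]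
      simp [pl]
    have := (pu_bijective_of_isIso f₃ h₃).1 (hz.trans (show (0 : T.gp _ M i n) = pu T f₃ h₃ 0 by simp [pu]))
    rw [← cl_pl T (U := W) (U' := W₀) hle a, ← cl_pl T (U := W₀) (U' := W₄) h43, this]
    simp [cl]
  · obtain ⟨W, c, rfl⟩ := exists_cl T (ptDir X x) z
    obtain ⟨W', hle, hleU⟩ := hsmall W
    obtain ⟨W₀, e⟩ := hpre W' hleU
    obtain ⟨f, hfp, h, hiso, -, hL⟩ := hspec W' W₀ e
    have := hiso hleU
    obtain ⟨a, ha⟩ := (pu_bijective_of_isIso f h).2 (pl T (idxHom hle) c)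
    exact ⟨cl T W₀ a, by rw [hL, ha, cl_pl]⟩

/-- The normalisation of the closure of a point induces a bijection of groups of points. -/
theorem ptPush_normalization_bijective (X : Obj V) (w : X.scheme)
    [IsIntegral (X.ptSub w).scheme]
    [QuasiCompact ((X.ptSub w).scheme.fromSpecStalk (genericPoint (X.ptSub w).scheme))]
    [QuasiSeparated ((X.ptSub w).scheme.fromSpecStalk (genericPoint (X.ptSub w).scheme))]
    (Y : Obj V) [IsIntegral Y.scheme] (e : Y.scheme ≅ Curv2.normalization (X.ptSub w).scheme)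
    (φ : Y.scheme ⟶ X.scheme) [IsProper φ]
    (hφ : φ = e.hom ≫ Curv2.normalizationι (X.ptSub w).scheme ≫ X.ptSubι w)
    (L : T.PtPush φ (genericPoint Y.scheme) w) :
    Function.Bijective (L.cpt M i n).hom := by
  let ν := Curv2.normalizationι (X.ptSub w).scheme
  have : IsAffineHom ν := isAffineHom_normalizationι _
  have : IsProper ν := by
    have h1 : IsProper (ν ≫ X.ptSubι w) := by
      have : IsProper (e.inv ≫ φ) := inferInstance
      rwa [hφ, Iso.inv_hom_id_assoc] at this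
    exact IsProper.of_comp ν (X.ptSubι w)
  have : IsFinite (Curv2.normalizationι (X.ptSub w).scheme) :=
    IsFinite.iff_isProper_and_isAffineHom.mpr ⟨‹IsProper ν›, ‹IsAffineHom ν›⟩
  obtain ⟨U, hU, hiso⟩ := exists_isIso_normalizationι (X.ptSub w).scheme
  have hι : Surjective (Y.ptSubι (genericPoint Y.scheme)) := ⟨by
    rw [← Set.range_eq_univ, range_ptSubι]
    exact genericPoint_closure _⟩
  have : IsIso (Y.ptSubι (genericPoint Y.scheme)) := isIso_of_isClosedImmersion_of_surjective _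
  have hψ : ptPsi φ L.maps_pt = (Y.ptSubι (genericPoint Y.scheme) ≫ e.hom) ≫ ν := by
    rw [← cancel_mono (X.ptSubι w), ptPsi_ι, hφ]
    simp [ν]
  have : IsIso (ptPsi φ L.maps_pt ∣_ U) := by
    rw [hψ, morphismRestrict_comp]
    have h1 : IsIso (((Y.ptSubι (genericPoint Y.scheme)) ≫ e.hom) ∣_ (ν ⁻¹ᵁ U)) :=
      IsZariskiLocalAtTarget.restrict (P := MorphismProperty.isomorphisms Scheme.{u})
        (MorphismProperty.isomorphisms.infer_property _) _
    exact @IsIso.comp_isIso _ _ _ _ _ _ _ h1 hiso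
  exact ptPush_bijective L hU

end Groth.Agent.BMLib
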