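import Groth.Agent.BMLib.Multi

/-!
# Vanishing in high degree
-/

universe u

noncomputable section

open AlgebraicGeometry CategoryTheory CategoryTheory.Limits Topology TopologicalSpace Opposite

set_option linter.unusedSectionVars false

namespace Groth.Agent.BMLib

open BMCoh

variable {V : ObjectProperty Scheme.{u}} [IsConstructible V] {X : Obj V}
variable {R : Type u} [CommRing R] {A : Coefs R} {T : PreTheory V R A} {M : A.Cat} {i n : ℤ}

lemma exists_sep_zero (X : Obj V) : ∃ (s : Finset (X.cdPt 0)) (Y₀ : X.scheme.Opens),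
    (∀ x, x ∈ s) ∧ Sep s Y₀ ∧ ∀ p ∈ Y₀, p ∈ clS s := by
  classical
  have hmax : ∀ (x : X.cdPt 0) (y : X.scheme), y ∉ (⊥ : X.scheme.Opens) → y ⤳ x.1 → y = x.1 :=
    fun x y _ h => by
      by_contra hne
      have := codim_lt_of_specializes h hne
      rw [x.2] at this
      omega
  let s : Finset (X.cdPt 0) := (Set.Finite.preimage Subtype.val_injective.injOn
    (finite_maximal (⊥ : X.scheme.Opens))).toFinset
  have hs : ∀ x : X.cdPt 0, x ∈ s := fun x =>
    (Set.Finite.mem_toFinset _).mpr ⟨id, hmax x⟩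
  choose O hxO hO using fun x : s =>
    exists_open_sub (U := (⊥ : X.scheme.Opens)) (x := x.1.1) id (hmax x.1)
  have hY₀ : ContainsFj X 0 (⨆ x : s, O x) := fun p hp =>
    Opens.mem_iSup.mpr ⟨⟨⟨p, Nat.le_zero.mp hp⟩, hs _⟩, hxO _⟩
  obtain ⟨Y₀, hle, S₀, -⟩ := exists_sep s hY₀
  refine ⟨s, Y₀, hs, S₀, fun p hp => ?_⟩
  obtain ⟨y, hy⟩ := Opens.mem_iSup.mp (hle hp)
  exact mem_clS.mpr ⟨y.1, y.2, hO y p hy id⟩

variable {s : Finset (X.cdPt 0)} {Y : X.scheme.Opens}

/-- The piece of a top point, as a morphism of objects. -/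
def topMor [IsReduced X.scheme] (S : Sep s Y) (hsub : ∀ p ∈ Y, p ∈ clS s) (x : s) :
    pc X (clPt X x.1.1) Y ⟶ X.res Y :=
  ⟨pi X (clPt X x.1.1) Y, isOpenImmersion_pi (sepY s Y x.1) (by
    ext p
    refine ⟨fun hp => ⟨clS_inter_sepY x.1 ⟨hsub p hp.1, hp⟩, hp.1⟩,
      fun hp => S.mem_sepY x.2 hp.2 (specializes_iff_mem_closure.mpr hp.1)⟩), by
    have h1 := dim_pc_clPt (X := X) (S.mem x.1)
    have h2 := dim_of_containsFj S.fj
    have h3 := pdim_add_codim x.1.1
    rw [x.1.2] at h3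
    simp only at h1 ⊢
    omega⟩

lemma topMor_isFam [IsReduced X.scheme] (S : Sep s Y) (hsub : ∀ p ∈ Y, p ∈ clS s) :
    IsFam (topMor S hsub) where
  disj := by
    intro x y hne
    rw [Set.disjoint_left]
    show ∀ ⦃a⦄, a ∈ Set.range (pi X (clPt X x.1.1) Y) → a ∉ Set.range (pi X (clPt X y.1.1) Y)
    rw [range_pi, range_pi]
    intro p hp hp'
    exact S.disj x.1 x.2 y.1 y.2 (fun e => hne (Subtype.ext e)) _ p.2
      (specializes_iff_mem_closure.mpr hp) (specializes_iff_mem_closure.mpr hp')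
  cover := by
    intro p
    obtain ⟨y, hy, hyp⟩ := mem_clS.mp (hsub _ p.2)
    refine ⟨⟨y, hy⟩, ?_⟩
    show p ∈ Set.range (pi X (clPt X y.1) Y)
    rw [range_pi]
    exact specializes_iff_mem_closure.mp hyp

lemma fjGp_zero_isZero [IsReduced X.scheme]
    (h : ∀ x : X.scheme, WeilCoh.codim X.scheme x = 0 → IsZero (T.ptGp X x M i n)) :
    IsZero (T.fjGp X 0 M i n) := by
  refine ModuleCat.isZero_iff_subsingleton.mpr (subsingleton_of_forall_eq 0 fun z => ?_)
  obtain ⟨⟨U, hU, hd⟩, a, rfl⟩ := exists_cl T (fjDir X 0) z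
  obtain ⟨s, Y₀, hs, S₀, hsub₀⟩ := exists_sep_zero X
  have hY : ContainsFj X 0 (Y₀ ⊓ U) := containsFj_inf S₀.fj hU
  have S := S₀.mono inf_le_left hY
  have hsub : ∀ p ∈ Y₀ ⊓ U, p ∈ clS s := fun p hp => hsub₀ p hp.1
  let a' := pl T (X.resLE (inf_le_right : Y₀ ⊓ U ≤ U) ((dim_of_containsFj hY).trans hd.symm)) a
  choose O hxO hO using fun x : s => exists_cp_zero T (hxY := S.mem x.1)
    (b := pl T (topMor S hsub x) a') ((ModuleCat.isZero_iff_subsingleton.mp (h x.1.1 x.1.2)).elim _ _)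
  let Y' : X.scheme.Opens := (Y₀ ⊓ U) ⊓ ⟨⋂ x : s, ((O x : Set X.scheme) ∪ (closure {x.1.1})ᶜ),
    isOpen_iInter_of_finite fun x => (O x).isOpen.union isClosed_closure.isOpen_compl⟩
  have hY' : ContainsFj X 0 Y' := fun p hp => ⟨hY p hp, Set.mem_iInter.mpr fun x => by
    by_cases hc : p ∈ closure ({x.1.1} : Set X.scheme)
    · by_cases he : x.1.1 = p
      · exact Or.inl (he ▸ hxO x)
      · have := codim_lt_of_specializes (specializes_iff_mem_closure.mpr hc) he
        omega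
    · exact Or.inr hc⟩
  have S' := S.mono inf_le_left hY'
  have hsub' : ∀ p ∈ Y', p ∈ clS s := fun p hp => hsub p hp.1
  rw [← cl_pl T (U := ⟨U, hU, hd⟩) (U' := fjIdx _ hY) inf_le_right a]
  refine (cl_eq_zero_iff T (fjDir X 0) _).mpr ⟨fjIdx Y' hY', inf_le_left, ?_⟩
  by_cases hne : Nonempty s
  · refine (topMor_isFam S' hsub').eq_zero T _ fun x => ?_
    rw [← pl_comp]
    have e : topMor S' hsub' x ≫ idxHom (U := fjIdx _ hY) (U' := fjIdx Y' hY') inf_le_left =
        ptMor (X := X) (inf_le_left : Y' ≤ Y₀ ⊓ U) (S'.mem x.1) ≫ topMor S hsub x :=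
      Hom.ext (pcMap_pi (le_refl (clPt X x.1.1)) (inf_le_left : Y' ≤ Y₀ ⊓ U)).symm
    rw [e, pl_comp]
    exact hO x Y' inf_le_left _ fun p hp hc =>
      (Set.mem_iInter.mp hp.2 x).resolve_right fun h' => h' hc
  · have : IsEmpty (X.res Y').scheme := ⟨fun p => by
      obtain ⟨y, hy, -⟩ := mem_clS.mp (hsub' _ p.2)
      exact hne ⟨⟨y, hy⟩⟩⟩
    exact eq_zero_of_isEmpty T _

lemma fjGp_isZero [IsReduced X.scheme] (c : ℕ)
    (hc : ∀ (y : X.scheme) (k l : ℤ), (WeilCoh.pdim X.scheme y : ℤ) + c < k →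
      IsZero (T.ptGp X y M k l)) :
    ∀ (j : ℕ) (i n : ℤ), (WeilCoh.dim X.scheme : ℤ) + j + c < i → IsZero (T.fjGp X j M i n) := by
  intro j
  induction j with
  | zero =>
    intro i n hi
    refine fjGp_zero_isZero fun x hx => hc x i n ?_
    have := pdim_add_codim x
    omega
  | succ j ih =>
    intro i n hi
    refine ModuleCat.isZero_iff_subsingleton.mpr (subsingleton_of_forall_eq 0 fun w => ?_)
    refine fjRes_injective T (fun x hx => hc x _ _ ?_) w
      ((ModuleCat.isZero_iff_subsingleton.mp (ih i n (by push_cast at hi; omega))).elim _ _)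
    have := pdim_add_codim x
    push_cast at hi
    omega

end Groth.Agent.BMLib
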